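import Groth.Agent.HopfQuot.CocommDiag
import Groth.Agent.HopfQuot.UnipotentInduction
import Groth.Agent.HopfQuot.Infinitesimal
import Groth.Agent.HopfQuot.Trigonalizable
import Mathlib.RingTheory.HopfAlgebra.GroupLike
import Mathlib.RingTheory.FiniteType
import Mathlib.LinearAlgebra.FreeModule.PID

/-!
# Group-like elements of infinite order give characters; groups without them are unipotent
-/

set_option autoImplicit false
set_option linter.style.haveILetI false

universe u

open scoped TensorProduct
open WithConv HopfRep Groth.Agent.HopfLib Groth.Agent.HopfQuot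

noncomputable section

namespace Groth.Agent.UnipStruct

variable {k : Type u} [Field k]

theorem hit_groupLike {A : Type u} [CommRing A] [Bialgebra k A] {g : A} (hg : IsGroupLikeElem k g) (φ : A →ₗ[k] k) :
    hit (V := A) φ g = φ g • g := by
  rw [hit_regular, hg.comul_eq_tmul_self, sliceR_tmul]

/-- The only group-like element in the socle filtration is `1`. -/
theorem eq_one_of_mem_socFil {A : Type u} [CommRing A] [Bialgebra k A] {g : A} (hg : IsGroupLikeElem k g)
    {r : ℕ} (hr : g ∈ socFil k A r) : g = 1 := by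
  by_contra hne
  have h1 : (1 : A) ≠ 0 := (IsGroupLikeElem.one (R := k) (A := A)).ne_zero
  obtain ⟨φ, hφ1, hφg⟩ : ∃ φ : A →ₗ[k] k, φ 1 = 0 ∧ φ g = 1 := by
    have hnot : g ∉ Submodule.span k {(1 : A)} := fun h => by
      obtain ⟨c, hc⟩ := Submodule.mem_span_singleton.1 h
      have := congrArg (CoalgebraStruct.counit (R := k)) hc
      rw [map_smul, Bialgebra.counit_one, hg.counit_eq_one, smul_eq_mul, mul_one] at this
      rw [this, one_smul] at hc
      exact hne hc.symm
    obtain ⟨φ, h0, hφ⟩ := LinearMap.exists_extend_of_notMem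
      (p := Submodule.span k {(1 : A)}) 0 hnot (1 : k)
    exact ⟨φ, by simpa using LinearMap.congr_fun h0 ⟨1, Submodule.mem_span_singleton_self _⟩, hφ⟩
  have key : ∀ s, g ∈ socFil k A s → False := by
    intro s
    induction s with
    | zero =>
      intro h
      rw [socFil, Submodule.mem_bot] at h
      exact hg.ne_zero h
    | succ s ih =>
      intro h
      have h' := mem_socFil_succ.1 h φ hφ1
      rw [hit_groupLike hg, hφg, one_smul] at h'
      exact ih h'
  exact key r hr

/-- A primitive element generates a subalgebra inside the socle filtration. -/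
theorem exists_mem_socFil_of_mem_adjoin {A : Type u} [CommRing A] [HopfAlgebra k A] {x : A}
    (hx : CoalgebraStruct.comul (R := k) x = x ⊗ₜ[k] (1 : A) + (1 : A) ⊗ₜ[k] x) {b : A}
    (hb : b ∈ Algebra.adjoin k {x}) : ∃ r, b ∈ socFil k A r := by
  have hp : ∀ n, x ^ n ∈ socFil k A (n + 1) := fun n => by
    induction n using Nat.strong_induction_on with
    | _ n ih =>
      refine mem_socFil_succ.2 fun φ hφ => Submodule.span_le.2 ?_ (hit_pow_mem_of_primitive hx n φ hφ)
      rintro _ ⟨i, hi, rfl⟩
      exact socFil_mono (show i + 1 ≤ n from hi) (ih i hi)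
  rw [Algebra.adjoin_singleton_eq_range_aeval] at hb
  obtain ⟨P, rfl⟩ := hb
  refine ⟨P.natDegree + 1, ?_⟩
  change Polynomial.aeval x P ∈ _
  rw [Polynomial.aeval_eq_sum_range]
  exact Submodule.sum_mem _ fun i hi => Submodule.smul_mem _ _
    (socFil_mono (Finset.mem_range.1 hi) (hp i))

theorem isCocomm_of_surjective {A C : Type u} [CommRing A] [HopfAlgebra k A] [Coalgebra.IsCocomm k A]
    [CommRing C] [HopfAlgebra k C] (π : A →ₐc[k] C) (hπ : Function.Surjective π) : Coalgebra.IsCocomm k C := by
  refine ⟨LinearMap.ext fun c => ?_⟩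
  obtain ⟨a, rfl⟩ := hπ c
  show TensorProduct.comm k C C (CoalgebraStruct.comul (R := k) (π a)) = CoalgebraStruct.comul (R := k) (π a)
  rw [← CoalgHomClass.map_comp_comul_apply π a]
  conv_rhs => rw [← Coalgebra.comm_comul (R := k) a]
  show TensorProduct.comm k C C (TensorProduct.map _ _ (CoalgebraStruct.comul (R := k) a)) = _
  induction CoalgebraStruct.comul (R := k) a using TensorProduct.induction_on with
  | zero => simp
  | add p q hp hq => simp only [map_add, hp, hq]
  | tmul p q => simp

/-- A group-like element congruent to `1` modulo a primitive element equals `1`. -/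
theorem eq_one_of_sub_one_mem {A : Type u} [CommRing A] [HopfAlgebra k A] {x g : A}
    (hx : CoalgebraStruct.comul (R := k) x = x ⊗ₜ[k] (1 : A) + (1 : A) ⊗ₜ[k] x) (hg : IsGroupLikeElem k g)
    (h : g - 1 ∈ SGA3.augIdealSpan k A (Algebra.adjoin k {x})) : g = 1 := by
  have hD := isHopfSubalgebra_adjoin_primitive hx
  haveI := faithfullyFlat_hopfSubalgebra hD
  let D := Algebra.adjoin k {x}
  let g₁ : Pt k A (A ⊗[D] A) := toConv Algebra.TensorProduct.includeLeft
  let g₂ : Pt k A (A ⊗[D] A) :=
    toConv ((Algebra.TensorProduct.includeRight : A →ₐ[D] A ⊗[D] A).restrictScalars k)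
  have hag : ∀ b ∈ D, g₁.ofConv b = g₂.ofConv b := fun b hb =>
    ((Algebra.TensorProduct.includeRight : A →ₐ[D] A ⊗[D] A).commutes ⟨b, hb⟩).symm
  have hn : Kills (SGA3.augIdealSpan k A D) (g₁⁻¹ * g₂) :=
    kills_augIdealSpan_iff.2 fun b hb => inv_mul_apply_of_agree hD hag hb
  have h1 : (g₁⁻¹ * g₂).ofConv g = 1 := by
    have := hn (g - 1) h
    rwa [map_sub, map_one, sub_eq_zero] at this
  have e : g₂.ofConv g = g₁.ofConv g := by
    have h2 : (g₁ * (g₁⁻¹ * g₂)).ofConv g = g₁.ofConv g := by
      rw [HopfQuot.mul_apply, hg.comul_eq_tmul_self, Algebra.TensorProduct.lift_tmul, h1, mul_one]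
    rwa [mul_inv_cancel_left] at h2
  have hgD : g ∈ D := mem_of_tmul_one_eq D e.symm
  obtain ⟨r, hr⟩ := exists_mem_socFil_of_mem_adjoin hx hgD
  exact eq_one_of_mem_socFil hg hr

variable [IsAlgClosed k]

/-- A group-like element of infinite order yields a surjection onto the Laurent polynomials. -/
theorem exists_surjective_laurent {A : Type u} [CommRing A] [HopfAlgebra k A] [Coalgebra.IsCocomm k A]
    [Algebra.FiniteType k A] {g : A} (hg : IsGroupLikeElem k g) (hord : ∀ n : ℕ, 0 < n → g ^ n ≠ 1) :
    ∃ θ : A →ₐc[k] MonoidAlgebra k (Multiplicative ℤ), Function.Surjective θ := by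
  haveI : IsNoetherianRing A := Algebra.FiniteType.isNoetherianRing k A
  let S : Set (Ideal A) := {I | ∃ (C : Type u) (_ : CommRing C) (_ : HopfAlgebra k C) (π : A →ₐc[k] C),
    Function.Surjective π ∧ RingHom.ker (π : A →+* C) = I ∧ ∀ n : ℕ, 0 < n → π g ^ n ≠ 1}
  obtain ⟨I, ⟨C, _, _, π, hπ, hI, hCord⟩, hmax⟩ := set_has_maximal_iff_noetherian.2 ‹IsNoetherianRing A› S
    ⟨_, A, inferInstance, inferInstance, BialgHom.id k A, Function.surjective_id, rfl, hord⟩
  haveI := isCocomm_of_surjective π hπ
  have hgC : IsGroupLikeElem k (π g) := hg.map π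
  have hprim : ∀ f : C, CoalgebraStruct.comul (R := k) f = f ⊗ₜ[k] (1 : C) + (1 : C) ⊗ₜ[k] f → f = 0 := by
    intro f hf
    by_contra hf0
    let J := SGA3.augIdealSpan k C (Algebra.adjoin k {f})
    haveI : J.IsHopfIdeal k :=
      (isNormalSub_augIdealSpan (isHopfSubalgebra_adjoin_primitive hf)).isHopfIdeal
    have hfJ : f ∈ J :=
      Ideal.subset_span ⟨Algebra.self_mem_adjoin_singleton k f, counit_eq_zero_of_primitive hf⟩
    let π' : A →ₐc[k] C ⧸ J := (Bialgebra.Quotient.mkBialgHom (R := k) J).comp π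
    have hπ' : ∀ a, π' a = Ideal.Quotient.mk J (π a) := fun a => rfl
    refine hmax (RingHom.ker (π' : A →+* C ⧸ J)) ⟨C ⧸ J, inferInstance, inferInstance, π', ?_, rfl, ?_⟩ ?_
    · exact Ideal.Quotient.mk_surjective.comp hπ
    · intro n hn h
      rw [hπ', ← map_pow, ← map_one (Ideal.Quotient.mk J), Ideal.Quotient.eq] at h
      exact hCord n hn (eq_one_of_sub_one_mem hf (hgC.pow (n := n)) h)
    · refine lt_of_le_of_ne (fun a ha => ?_) fun e => ?_
      · rw [← hI] at ha
        show π' a = 0
        rw [hπ', show π a = 0 from ha, map_zero]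
      · obtain ⟨a, rfl⟩ := hπ f
        have ha : a ∈ RingHom.ker (π' : A →+* C ⧸ J) := (Ideal.Quotient.eq_zero_iff_mem).2 hfJ
        rw [← e, ← hI] at ha
        exact hf0 ha
  haveI : Algebra.FiniteType k C := Algebra.FiniteType.of_surjective (π : A →ₐ[k] C) hπ
  have hD := isDiagonalizable_of_isCocomm (k := k) (A := C) hprim
  let M := GroupLike k C
  let v : M →* C := { toFun := GroupLike.val, map_one' := rfl, map_mul' := fun _ _ => rfl }
  let e₀ : MonoidAlgebra k M →ₐ[k] C := MonoidAlgebra.lift k C M v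
  have he₀ : ∀ m : M, e₀ (MonoidAlgebra.single m 1) = m.val := fun m => by
    simp only [e₀, MonoidAlgebra.lift_single, one_smul]; rfl
  have hli : LinearIndependent k (fun m : M => m.val) := by
    have h := (linearIndepOn_isGroupLikeElem (R := k) (A := C))
    exact h.linearIndependent.comp (fun m : M => (⟨m.val, m.2⟩ : {a | IsGroupLikeElem k a}))
      fun a b hab => GroupLike.val_injective (congrArg Subtype.val hab)
  have hbij : Function.Bijective e₀ := by
    refine ⟨?_, fun c => ?_⟩
    · rw [injective_iff_map_eq_zero]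
      intro z hz
      have hz' : Finsupp.linearCombination k (fun m : M => m.val) z.coeff = 0 := by
        rw [← hz, Finsupp.linearCombination_apply]
        simp only [e₀, MonoidAlgebra.lift_apply]
        rfl
      exact MonoidAlgebra.ext ((linearIndependent_iff.1 hli) _ hz')
    · have hc : c ∈ Submodule.span k {a : C | IsGroupLikeElem k a} := by
        rw [show Submodule.span k {a : C | IsGroupLikeElem k a} = ⊤ from hD]; trivial
      induction hc using Submodule.span_induction with
      | mem y hy => exact ⟨MonoidAlgebra.single ⟨y, hy⟩ 1, he₀ _⟩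
      | zero => exact ⟨0, map_zero _⟩
      | add p q _ _ hp hq =>
        obtain ⟨a, rfl⟩ := hp; obtain ⟨b, rfl⟩ := hq; exact ⟨a + b, map_add _ _ _⟩
      | smul r p _ hp => obtain ⟨a, rfl⟩ := hp; exact ⟨r • a, map_smul _ _ _⟩
  let e : MonoidAlgebra k M ≃ₐ[k] C := AlgEquiv.ofBijective e₀ hbij
  haveI : Group.FG M :=
    MonoidAlgebra.finiteType_iff_group_fg.1 (Algebra.FiniteType.of_surjective e.symm.toAlgHom e.symm.surjective)
  haveI : AddGroup.FG (Additive M) := AddGroup.fg_of_group_fg
  haveI : Module.Finite ℤ (Additive M) := Module.Finite.iff_addGroup_fg.2 inferInstance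
  let N := Additive M ⧸ Submodule.torsion ℤ (Additive M)
  haveI : Module.Free ℤ N := Module.free_of_finite_type_torsion_free'
  haveI : Nontrivial N := by
    refine ⟨Submodule.Quotient.mk (Additive.ofMul (⟨π g, hgC⟩ : M)), 0, fun h => ?_⟩
    obtain ⟨⟨d, hd⟩, hd0⟩ := (Submodule.Quotient.mk_eq_zero _).1 h
    have hd' : d ≠ 0 := nonZeroDivisors.ne_zero hd
    have h1 : (⟨π g, hgC⟩ : M) ^ d = 1 := Additive.ofMul.injective hd0
    have h2 : (⟨π g, hgC⟩ : M) ^ d.natAbs = 1 := by
      rw [← zpow_natCast]
      rcases Int.natAbs_eq d with hh | hh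
      · rw [← hh, h1]
      · rw [show (d.natAbs : ℤ) = -d by omega, zpow_neg, h1, inv_one]
    exact hCord _ (Int.natAbs_pos.2 hd') (by
      have := congrArg v h2
      rwa [map_pow, map_one] at this)
  let b := Module.Free.chooseBasis ℤ N
  obtain ⟨i₀⟩ := b.index_nonempty
  let χ : M →* Multiplicative ℤ :=
    AddMonoidHom.toMultiplicativeRight ((b.coord i₀).toAddMonoidHom.comp (Submodule.mkQ _).toAddMonoidHom)
  have hχ : Function.Surjective χ := fun z => by
    obtain ⟨m, hm⟩ := Submodule.mkQ_surjective (Submodule.torsion ℤ (Additive M)) (Multiplicative.toAdd z • b i₀)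
    refine ⟨Additive.toMul m, ?_⟩
    show Multiplicative.ofAdd (b.coord i₀ (Submodule.mkQ _ m)) = z
    rw [hm, map_smul, Module.Basis.coord_apply, Module.Basis.repr_self, Finsupp.single_eq_same, smul_eq_mul,
      mul_one, ofAdd_toAdd]
  let θ₀ : C →ₐ[k] MonoidAlgebra k (Multiplicative ℤ) :=
    (MonoidAlgebra.mapDomainAlgHom k k χ).comp e.symm.toAlgHom
  have hθ₀ : ∀ m : M, θ₀ m.val = MonoidAlgebra.single (χ m) 1 := fun m => by
    have : e.symm m.val = MonoidAlgebra.single m 1 := e.injective ((e.apply_symm_apply _).trans (he₀ m).symm)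
    simp [θ₀, this]
  have hext : ∀ {D : Type u} [CommRing D] [Algebra k D] (f₁ f₂ : C →ₐ[k] D),
      (∀ m : M, f₁ m.val = f₂ m.val) → f₁ = f₂ := fun f₁ f₂ h => by
    refine AlgHom.ext fun c => ?_
    have hc : c ∈ Submodule.span k {a : C | IsGroupLikeElem k a} := by
      rw [show Submodule.span k {a : C | IsGroupLikeElem k a} = ⊤ from hD]; trivial
    exact LinearMap.eqOn_span (f := f₁.toLinearMap) (g := f₂.toLinearMap) (fun y hy => h ⟨y, hy⟩) hc
  let θ : C →ₐc[k] MonoidAlgebra k (Multiplicative ℤ) := BialgHom.ofAlgHom θ₀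
    (hext _ _ fun m => by
      show CoalgebraStruct.counit (R := k) (θ₀ m.val) = CoalgebraStruct.counit (R := k) m.val
      rw [hθ₀, m.2.counit_eq_one, MonoidAlgebra.counit_single, CommSemiring.counit_apply])
    (hext _ _ fun m => by
      show Algebra.TensorProduct.map θ₀ θ₀ (CoalgebraStruct.comul (R := k) m.val) =
        CoalgebraStruct.comul (R := k) (θ₀ m.val)
      rw [m.2.comul_eq_tmul_self, Algebra.TensorProduct.map_tmul, hθ₀, MonoidAlgebra.comul_single]
      simp)
  refine ⟨θ.comp π,
    (Function.Surjective.comp (g := MonoidAlgebra.mapDomain χ) (fun z => ?_) e.symm.surjective).comp hπ⟩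
  obtain ⟨w, hw⟩ := Finsupp.mapDomain_surjective (M := k) hχ z.coeff
  exact ⟨MonoidAlgebra.ofCoeff w, MonoidAlgebra.ext hw⟩

/-- Without nontrivial group-like elements a commutative group is unipotent. -/
theorem isUnipotent_of_groupLike {A : Type u} [CommRing A] [HopfAlgebra k A] [Coalgebra.IsCocomm k A]
    (h : ∀ g : A, IsGroupLikeElem k g → g = 1) : HopfRep.IsUnipotent k A := by
  intro V _ _ cV hfin hV
  have hT : IsTrigonalizable k A := isTrigonalizable_of_isCocomm
  obtain ⟨S, -, hS, hS1⟩ := exists_succ_trigonalizable hT (S := (⊥ : Submodule k V)) isSubcomod_bot bot_ne_top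
  rw [finrank_bot, _root_.zero_add] at hS1
  let cS := ComodSub.Comod.restr cV S hS
  letI := cS
  obtain ⟨⟨v, hv⟩, hv0⟩ : ∃ v : S, v ≠ 0 := by
    haveI : Nontrivial S := Module.nontrivial_of_finrank_eq_succ hS1
    exact exists_ne 0
  obtain ⟨g, hg, hgv⟩ := exists_groupLike_eigen (V := S) (A := A) hS1 hv0
  rw [Submodule.ne_bot_iff]
  refine ⟨v, ?_, fun e => hv0 (Subtype.ext e)⟩
  have h3 : cS.coact ⟨v, hv⟩ = ⟨v, hv⟩ ⊗ₜ[k] (1 : A) := by rw [← h g hg]; exact hgv
  have h4 := congrArg (S.subtype.rTensor A) h3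
  rw [ComodSub.restr_coact_coe] at h4
  simpa [HopfRep.fixedPts] using h4

/-- In a unipotent group of characteristic `p` some power of `p` kills all points. -/
theorem exists_pow_eq_one_of_isUnipotent {p : ℕ} [hp : Fact p.Prime] [CharP k p] {A : Type u} [CommRing A]
    [HopfAlgebra k A] [Algebra.FiniteType k A] (hU : HopfRep.IsUnipotent k A) :
    ∃ N : ℕ, ∀ (R : Type u) [CommRing R] [Algebra k R] (x : Pt k A R), x ^ p ^ N = 1 := by
  have kill : ∀ (r : ℕ) (R : Type u) [CommRing R] [Algebra k R] (x : Pt k A R),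
      ∀ a ∈ augFil k A (r + 1), (x ^ p ^ r).ofConv a = 0 := by
    intro r
    induction r with
    | zero =>
      intro R _ _ x a ha
      rw [augFil_one, Submodule.mem_bot] at ha
      rw [ha, map_zero]
    | succ r ih =>
      intro R _ _ x a ha
      have hmul : ∀ (y z : Pt k A R), (∀ b ∈ augFil k A (r + 1), y.ofConv b = 0) →
          (y * z).ofConv a = y.ofConv a + z.ofConv a := fun y z hy => by
        obtain ⟨t, ht⟩ := comul_sub_mem_of_augFil ha
        rw [HopfQuot.mul_apply, ← sub_add_cancel (CoalgebraStruct.comul (R := k) a)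
          (a ⊗ₜ[k] (1 : A) + (1 : A) ⊗ₜ[k] a), ← sub_sub, ← ht, map_add, map_add, Algebra.TensorProduct.lift_tmul,
          Algebra.TensorProduct.lift_tmul, map_one, map_one, mul_one, one_mul]
        convert zero_add _
        clear ht
        induction t using TensorProduct.induction_on with
        | zero => simp
        | add u v hu hv => rw [map_add, map_add, hu, hv, add_zero]
        | tmul u v => simp [hy u u.2]
      have hm : ∀ m : ℕ, ((x ^ p ^ r) ^ m).ofConv a = m • (x ^ p ^ r).ofConv a := fun m => by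
        induction m with
        | zero => rw [pow_zero, one_apply, show CoalgebraStruct.counit (R := k) a = 0 from ha.2, map_zero, zero_smul]
        | succ m ihm => rw [pow_succ', hmul _ _ (ih R x), ihm, succ_nsmul']
      rw [pow_succ, pow_mul, hm, nsmul_eq_mul, ← map_natCast (algebraMap k R), CharP.cast_eq_zero, map_zero, zero_mul]
  obtain ⟨s, hs⟩ := (Algebra.FiniteType.out : (⊤ : Subalgebra k A).FG)
  choose d hd using isUnipotent_iff_forall_mem_socFil.1 hU
  refine ⟨s.sup d, fun R _ _ x => ofConv_injective (AlgHom.ext_of_adjoin_eq_top hs fun a ha => ?_)⟩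
  have h0 := kill (d a) R (x ^ p ^ (s.sup d - d a)) _ (sub_counit_mem_augFil (hd a))
  rw [← pow_mul, ← pow_add, Nat.sub_add_cancel (Finset.le_sup ha), map_sub, AlgHom.commutes, sub_eq_zero] at h0
  exact h0.trans (one_apply a).symm

end Groth.Agent.UnipStruct
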