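import Groth.Agent.UnipStruct.Basic
import Groth.Agent.UnipStruct.GroupLike
import Groth.Agent.SGA3cLib.DiagPoints
import Groth.Agent.SGA3cLib.CentralEqBasic
import Groth.Agent.SGA3cLib.TorusBasic
import Groth.Agent.WittPts.Torus

/-!
# Groups without subtori are unipotent, and killed by a power of `p` in characteristic `p`
-/

set_option autoImplicit false
set_option linter.style.haveILetI false

universe u

open CategoryTheory CategoryTheory.Limits MonoidalCategory CartesianMonoidalCategory MonObj AlgebraicGeometry Opposite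
open WithConv TensorProduct HopfRep Groth.Agent.HopfQuot Groth.Agent.HopfLib

noncomputable section

namespace Groth.Agent.UnipStruct

variable {k : Type u} [Field k]

/-- Functions given by group-like elements are multiplicative. -/
theorem appTop_mul_of_groupLike {A : Type u} [CommRing A] [HopfAlgebra k A] {T : Over (Spec (CommRingCat.of k))}
    [IsAffine T.left] {a : A} (ha : IsGroupLikeElem k a) (x y : T ⟶ spec (k := k) A) :
    (x * y).left.appTop ((Scheme.ΓSpecIso (CommRingCat.of A)).inv a) =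
      x.left.appTop ((Scheme.ΓSpecIso (CommRingCat.of A)).inv a) *
        y.left.appTop ((Scheme.ΓSpecIso (CommRingCat.of A)).inv a) := by
  obtain ⟨R, _, _, e, ε, h⟩ := exists_pt (A := A) (T := T)
  rw [h, h, h, map_mul, HopfQuot.mul_apply, ha.comul_eq_tmul_self, Algebra.TensorProduct.lift_tmul, map_mul]

theorem pts_ext_appTop {A : Type u} [CommRing A] [HopfAlgebra k A] {T : Over (Spec (CommRingCat.of k))}
    [IsAffine T.left] {x y : T ⟶ spec (k := k) A}
    (h : ∀ a : A, x.left.appTop ((Scheme.ΓSpecIso (CommRingCat.of A)).inv a) =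
      y.left.appTop ((Scheme.ΓSpecIso (CommRingCat.of A)).inv a)) : x = y := by
  obtain ⟨R, _, _, e, ε, he⟩ := exists_pt (A := A) (T := T)
  refine e.injective (ofConv_injective (AlgHom.ext fun a => ε.injective ?_))
  rw [← he, ← he, h]

/-- The split torus of rank one over any base is a torus. -/
theorem isTorus_DS (S : Scheme.{u}) : Red.IsTorus (Red.DS S (Fin 1 → ℤ)) := by
  refine ⟨S, 𝟙 S, inferInstance, inferInstance, fun V hV => ⟨V, hV.isCompact, ?_⟩,
    fun s => ⟨⊤, trivial, 1, ?_⟩⟩
  · simp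
  · obtain ⟨c, hc, -⟩ := SGA3cLib.CentralEq.exists_bc_DS ((⊤ : S.Opens).ι ≫ 𝟙 S)
    haveI := hc (Fin 1 → ℤ)
    exact ⟨Grp.mkIso' (c (Fin 1 → ℤ))⟩

theorem multiplicative_ext_fin_one {N : Type*} [Monoid N] {f g : Multiplicative (Fin 1 → ℤ) →* N}
    (h : f (Multiplicative.ofAdd (Pi.single 0 1)) = g (Multiplicative.ofAdd (Pi.single 0 1))) : f = g := by
  let c : Multiplicative ℤ →* Multiplicative (Fin 1 → ℤ) :=
    AddMonoidHom.toMultiplicative (AddMonoidHom.single (fun _ : Fin 1 => ℤ) 0)
  have h' : f.comp c = g.comp c := MonoidHom.ext_mint h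
  refine MonoidHom.ext fun m => ?_
  have hm : m = c (Multiplicative.ofAdd (Multiplicative.toAdd m 0)) := by
    refine Multiplicative.toAdd.injective (funext fun i => ?_)
    rw [Fin.fin_one_eq_zero i]
    simp [c]
  rw [hm]
  exact DFunLike.congr_fun h' _

variable [IsAlgClosed k]

/-- A group mapping to the Laurent group algebra contains a subtorus. -/
theorem exists_torus_of_surjective {A : Type u} [CommRing A] [HopfAlgebra k A]
    (θ : A →ₐc[k] MonoidAlgebra k (Multiplicative ℤ)) (hθ : Function.Surjective θ) :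
    ∃ j : Red.DS (Spec (CommRingCat.of k)) (Fin 1 → ℤ) ⟶ spec (k := k) A,
      IsMonHom j ∧ Mono j := by
  let D := Red.DS (Spec (CommRingCat.of k)) (Fin 1 → ℤ)
  let L := MonoidAlgebra k (Multiplicative ℤ)
  let g₁ : MonoidAlgebra (ULift.{u} ℤ) (Multiplicative (Fin 1 → ℤ)) :=
    MonoidAlgebra.single (Multiplicative.ofAdd (Pi.single 0 1)) 1
  have hgu : IsUnit g₁ :=
    IsUnit.of_mul_eq_one (MonoidAlgebra.single (Multiplicative.ofAdd (Pi.single 0 1))⁻¹ 1)
      (by rw [MonoidAlgebra.single_mul_single, mul_inv_cancel, _root_.mul_one, MonoidAlgebra.one_def])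
  haveI : IsAffineHom D.hom := SGA3cLib.torus_isAffineHom (isTorus_DS _)
  haveI : IsAffine D.left := isAffine_of_isAffineHom D.hom
  obtain ⟨R, _, _, e, ε, he⟩ := exists_pt (A := L) (T := D)
  let t : Γ(D.left, ⊤) := SGA3cLib.fn (𝟙 D) g₁
  have hu : IsUnit (ε.symm t) := (hgu.map (SGA3cLib.fn (𝟙 D))).map ε.symm
  let v : D ⟶ spec (k := k) L :=
    e.symm (toConv (MonoidAlgebra.lift k R (Multiplicative ℤ) ((Units.coeHom R).comp (zpowersHom _ hu.unit))))
  have hv : ∀ {T : Over (Spec (CommRingCat.of k))} (x : T ⟶ D),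
      (x ≫ v).left.appTop ((Scheme.ΓSpecIso (CommRingCat.of L)).inv (MonoidAlgebra.single (Multiplicative.ofAdd 1) 1)) =
        SGA3cLib.fn x g₁ := fun {T} x => by
    have h1 : v.left.appTop ((Scheme.ΓSpecIso (CommRingCat.of L)).inv (MonoidAlgebra.single (Multiplicative.ofAdd 1) 1)) = t := by
      rw [he, e.apply_symm_apply, WithConv.ofConv_toConv, MonoidAlgebra.lift_single]
      simp [zpowersHom_apply]
    rw [Over.comp_left, Scheme.Hom.comp_appTop, CommRingCat.comp_apply, h1]
    exact (SGA3cLib.fn_comp x (𝟙 D) g₁).symm.trans (by rw [Category.comp_id])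
  have hgen : ∀ {T : Over (Spec (CommRingCat.of k))} [IsAffine T.left] {x y : T ⟶ spec (k := k) L},
      x.left.appTop ((Scheme.ΓSpecIso (CommRingCat.of L)).inv (MonoidAlgebra.single (Multiplicative.ofAdd 1) 1)) =
        y.left.appTop ((Scheme.ΓSpecIso (CommRingCat.of L)).inv (MonoidAlgebra.single (Multiplicative.ofAdd 1) 1)) →
      x = y := fun {T} _ x y h => by
    obtain ⟨R', _, _, e', ε', he'⟩ := exists_pt (A := L) (T := T)
    refine e'.injective (ofConv_injective ((MonoidAlgebra.lift k R' _).symm.injective ?_))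
    have key : (e' x).ofConv.toMonoidHom.comp (MonoidAlgebra.of k (Multiplicative ℤ)) =
        (e' y).ofConv.toMonoidHom.comp (MonoidAlgebra.of k (Multiplicative ℤ)) := by
      refine MonoidHom.ext_mint (ε'.injective ?_)
      exact (he' x _).symm.trans (h.trans (he' y _))
    exact key
  have hmul : ∀ (T : Over (Spec (CommRingCat.of k))) (x y : T ⟶ D), (x * y) ≫ v = (x ≫ v) * (y ≫ v) := fun T x y => by
    haveI : IsAffine (D ⊗ D).left := IsAffine.of_isPullback (IsPullback.of_hasPullback D.hom D.hom)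
    have h2 : (fst D D * snd D D) ≫ v = (fst _ _ ≫ v) * (snd _ _ ≫ v) := by
      refine hgen ?_
      rw [hv, appTop_mul_of_groupLike ⟨by rw [MonoidAlgebra.counit_single, CommSemiring.counit_apply], by rw [MonoidAlgebra.comul_single]; simp⟩, hv, hv]
      exact SGA3cLib.fn_mul_of_groupLike _ _ (by simp [g₁, MonoidAlgebra.comul_single])
    have h3 := lift x y ≫= h2
    rwa [← Category.assoc, MonObj.comp_mul, MonObj.comp_mul, lift_fst, lift_snd, lift_fst_assoc, lift_snd_assoc] at h3
  haveI : IsMonHom v := by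
    refine WittGrp.isMonHom_of_comp_mul v ?_ hmul
    have h := hmul (𝟙_ (Over (Spec (CommRingCat.of k)))) 1 1
    rw [@_root_.one_mul (𝟙_ (Over (Spec (CommRingCat.of k))) ⟶ D) _, left_eq_mul] at h
    exact h
  haveI : Mono v := ⟨fun {T} x y h => by
    refine SGA3cLib.fn_injective (MonoidAlgebra.ringHom_ext (fun r => ?_) fun m => ?_)
    · exact DFunLike.congr_fun (SGA3cLib.r₀_hom_ext ((SGA3cLib.fn x).comp MonoidAlgebra.singleOneRingHom)
        ((SGA3cLib.fn y).comp MonoidAlgebra.singleOneRingHom)) r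
    · exact DFunLike.congr_fun (multiplicative_ext_fin_one
        (f := (SGA3cLib.fn x).toMonoidHom.comp (MonoidAlgebra.of _ _))
        (g := (SGA3cLib.fn y).toMonoidHom.comp (MonoidAlgebra.of _ _))
        (((hv x).symm.trans (congrArg (fun z : T ⟶ spec (k := k) L => z.left.appTop _) h)).trans (hv y))) m⟩
  haveI : IsClosedImmersion (specHom θ).left := by
    rw [specHom_left]
    exact IsClosedImmersion.spec_of_surjective _ hθ
  haveI : Mono (specHom θ) := Over.mono_of_mono_left _
  exact ⟨v ≫ specHom θ, inferInstance, inferInstance⟩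

/-- Groups without subtori have only the trivial group-like element. -/
theorem eq_one_of_hasNoSubtorus {G : Over (Spec (CommRingCat.of k))} [GrpObj G] [Smooth G.hom]
    [ConnectedSpace G.left] (hG : Red.HasNoSubtorus k G) {A : Type u} [CommRing A] [HopfAlgebra k A]
    [Coalgebra.IsCocomm k A] [Algebra.FiniteType k A] (e : spec (k := k) A ⟶ G) [IsIso e] [IsMonHom e]
    {g : A} (hg : IsGroupLikeElem k g) : g = 1 := by
  haveI : IsReduced G.left := AbSchLib.isReduced_of_smooth G.hom
  haveI : IsIso e.left := inferInstanceAs (IsIso ((Over.forget _).map e))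
  by_cases hord : ∀ n : ℕ, 0 < n → g ^ n ≠ 1
  · exfalso
    obtain ⟨θ, hθ⟩ := exists_surjective_laurent hg hord
    obtain ⟨j, _, _⟩ := exists_torus_of_surjective θ hθ
    haveI : IsIso (Red.DS (Spec (CommRingCat.of k)) (Fin 1 → ℤ)).hom :=
      hG _ (j ≫ e) (isTorus_DS _)
    obtain ⟨c, hc⟩ : ∃ c : kˣ, c ≠ 1 := by
      classical
      obtain ⟨c, hc⟩ := Infinite.exists_notMem_finset ({0, 1} : Finset k)
      simp only [Finset.mem_insert, Finset.mem_singleton, not_or] at hc
      exact ⟨Units.mk0 c hc.1, fun h => hc.2 (congrArg Units.val h)⟩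
    let ι₀ : k →+* Γ((𝟙_ (Over (Spec (CommRingCat.of k)))).left, ⊤) :=
      (Scheme.ΓSpecIso (CommRingCat.of k)).inv.hom
    letI := SGA3cLib.algR₀ Γ((𝟙_ (Over (Spec (CommRingCat.of k)))).left, ⊤)
    let ev₀ : Multiplicative (Fin 1 → ℤ) →* Γ((𝟙_ (Over (Spec (CommRingCat.of k)))).left, ⊤) :=
      ((ι₀.toMonoidHom.comp (Units.coeHom k)).comp (zpowersHom _ c)).comp
        (AddMonoidHom.toMultiplicative (Pi.evalAddMonoidHom (fun _ : Fin 1 => ℤ) 0))
    obtain ⟨x, hx⟩ := SGA3cLib.fn_surjective (S := Spec (CommRingCat.of k))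
      (A := MonoidAlgebra (ULift.{u} ℤ) (Multiplicative (Fin 1 → ℤ))) (MonoidAlgebra.lift (ULift.{u} ℤ) _ _ ev₀).toRingHom
    have h1 : x = 1 := Over.OverMorphism.ext ((cancel_mono (Red.DS (Spec (CommRingCat.of k)) (Fin 1 → ℤ)).hom).1
      ((Over.w x).trans (Over.w _).symm))
    have h2 := congrArg (fun y => SGA3cLib.fn y (MonoidAlgebra.single (Multiplicative.ofAdd (Pi.single 0 1)) 1)) h1
    simp only [WittPts.fn_single_one] at h2
    rw [hx] at h2
    have h4 : ev₀ (Multiplicative.ofAdd (Pi.single 0 1)) = 1 := (MonoidAlgebra.lift_of (R := ULift.{u} ℤ) ev₀ _).symm.trans h2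
    have h3 : ι₀ (c : k) = 1 := by simpa [ev₀, zpowersHom_apply] using h4
    exact hc (Units.ext ((ConcreteCategory.bijective_of_isIso (Scheme.ΓSpecIso (CommRingCat.of k)).inv).1
      (h3.trans (map_one ι₀).symm)))
  push Not at hord
  obtain ⟨n, hn, hgn⟩ := hord
  haveI : ConnectedSpace (spec (k := k) A).left :=
    (inv e.left).homeomorph.surjective.connectedSpace (inv e.left).homeomorph.continuous
  haveI : IsReduced (spec (k := k) A).left := isReduced_of_isOpenImmersion e.left
  haveI : LocallyOfFiniteType (spec (k := k) A).hom := by rw [← Over.w e]; infer_instance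
  haveI : IsAffine (spec (k := k) A).left := inferInstanceAs (IsAffine (Spec (CommRingCat.of A)))
  let s : Γ((spec (k := k) A).left, ⊤) := (Scheme.ΓSpecIso (CommRingCat.of A)).inv g
  have hval : ∀ x : 𝟙_ (Over (Spec (CommRingCat.of k))) ⟶ spec (k := k) A,
      WittPts.Γk k (x.left.appTop s) ^ n = 1 := fun x => by
    have h : s ^ n = 1 := (map_pow (Scheme.ΓSpecIso (CommRingCat.of A)).inv.hom g n).symm.trans
      ((congrArg _ hgn).trans (map_one _))
    rw [← map_pow, ← map_pow, h, map_one, map_one]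
  rcases WittPts.values_dichotomy k (spec (k := k) A) s with ⟨c, hc⟩ | ⟨q, hq, hq'⟩
  · haveI : IsAffine (𝟙_ (Over (Spec (CommRingCat.of k)))).left := inferInstanceAs (IsAffine (Spec (CommRingCat.of k)))
    haveI : _root_.IsReduced A := (affine_isReduced_iff (CommRingCat.of A)).1 ‹IsReduced (spec (k := k) A).left›
    obtain ⟨R, _, _, e', ε, he'⟩ := exists_pt (k := k) (A := A) (T := 𝟙_ (Over (Spec (CommRingCat.of k))))
    by_contra hne
    obtain ⟨a, ha⟩ := AlgGrpLib.PointsDense.exists_algHom_ne_zero_of_isReduced k k A (g - 1) (sub_ne_zero.2 hne)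
    haveI : Nontrivial R := by
      refine ⟨⟨0, 1, fun h => zero_ne_one (α := k) ?_⟩⟩
      simpa using congrArg (fun z => WittPts.Γk k (ε z)) h
    have key : ∀ b : A →ₐ[k] k, WittPts.Γk k (ε (algebraMap k R (b g))) = c := fun b => by
      have h := hc (e'.symm (toConv ((Algebra.ofId k R).comp b)))
      rw [he', e'.apply_symm_apply] at h
      exact h
    have hinj : Function.Injective fun z : k => WittPts.Γk k (ε (algebraMap k R z)) :=
      (WittPts.bijective_Γk k).1.comp (ε.injective.comp (algebraMap k R).injective)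
    refine ha ?_
    rw [map_sub, map_one, sub_eq_zero]
    exact (hinj ((key a).trans (key (Bialgebra.counitAlgHom k A)).symm)).trans hg.counit_eq_one
  · exfalso
    obtain ⟨c, hc⟩ := ((Polynomial.finite_setOf_isRoot (mul_ne_zero hq
      (Polynomial.X_pow_sub_C_ne_zero hn (1 : k))))).exists_notMem
    simp only [Set.mem_setOf_eq, Polynomial.IsRoot.def, Polynomial.eval_mul, mul_eq_zero, not_or] at hc
    obtain ⟨x, hx⟩ := hq' c hc.1
    have := hval x
    rw [hx] at this
    exact hc.2 (by simp [this])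

/-- No subtori: unipotent coordinate ring. -/
theorem isUnipotent_of_hasNoSubtorus {G : Over (Spec (CommRingCat.of k))} [GrpObj G] [Smooth G.hom]
    [ConnectedSpace G.left] [IsCommMonObj G] (hG : Red.HasNoSubtorus k G) {A : Type u} [CommRing A] [HopfAlgebra k A]
    [Algebra.FiniteType k A] (e : spec (k := k) A ⟶ G) [IsIso e] [IsMonHom e] : HopfRep.IsUnipotent k A := by
  haveI : IsCommMonObj (spec (k := k) A) := (isCommMonObj_iff_isMulCommutative _).2 fun T => ⟨⟨fun x y => by
    rw [← cancel_mono e, MonObj.mul_comp, MonObj.mul_comp, _root_.mul_comm]⟩⟩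
  haveI := isCocomm_of_comm (k := k) (A := A)
  exact isUnipotent_of_groupLike fun g hg => eq_one_of_hasNoSubtorus hG e hg

theorem finiteType_of_iso {G : Over (Spec (CommRingCat.of k))} [LocallyOfFiniteType G.hom] {A : Type u} [CommRing A]
    [HopfAlgebra k A] (e : spec (k := k) A ⟶ G) [IsIso e] : Algebra.FiniteType k A := by
  haveI : IsIso e.left := inferInstanceAs (IsIso ((Over.forget _).map e))
  have h : LocallyOfFiniteType (spec (k := k) A).hom := by rw [← Over.w e]; infer_instance
  exact RingHom.finiteType_algebraMap.1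
    ((HasRingHomProperty.Spec_iff (P := @LocallyOfFiniteType) (φ := CommRingCat.ofHom (algebraMap k A))).mp h)

/-- In characteristic `p` a commutative group without subtori is killed by a power of `p`. -/
theorem killed_of_hasNoSubtorus {p : ℕ} [Fact p.Prime] [CharP k p] {G : Over (Spec (CommRingCat.of k))} [GrpObj G]
    [IsCommMonObj G] [Smooth G.hom] [ConnectedSpace G.left] [IsAffine G.left] (hG : Red.HasNoSubtorus k G) :
    Killed p G := by
  obtain ⟨A, _, _, e, _, _⟩ := exists_spec (k := k) G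
  haveI := finiteType_of_iso e
  obtain ⟨N, hN⟩ := exists_pow_eq_one_of_isUnipotent (p := p) (isUnipotent_of_hasNoSubtorus hG e)
  refine killed_iff.2 ⟨N, ?_⟩
  have h : (𝟙 (spec (k := k) A) : spec (k := k) A ⟶ spec (k := k) A) ^ p ^ N = 1 := by
    obtain ⟨x, hx⟩ := (ptSpec (k := k) (A := A) (T := A)).surjective (𝟙 _)
    rw [← hx, ← map_pow, hN, map_one]
  have h' := congrArg (fun f => CategoryTheory.inv e ≫ f ≫ e) h
  simp only [comp_pow', Category.id_comp, MonObj.one_comp, MonObj.comp_one] at h'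
  rw [← h']
  clear h h'
  induction p ^ N with
  | zero => rw [_root_.pow_zero, _root_.pow_zero, MonObj.comp_one]
  | succ m ih => rw [pow_succ, pow_succ, MonObj.comp_mul, ← ih, IsIso.inv_hom_id]

end Groth.Agent.UnipStruct
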