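import Groth.Agent.AlgGrpLib.SubgroupCalc
import Groth.Agent.AlgGrpLib.HomFlatRed
import Groth.Agent.SGA3cLib.MonoClosed
import Groth.Agent.HopfQuot.SchemeQuot
import Groth.Agent.AbSchLib.SmoothReduced
import Groth.Prelude.Def_WittGrp

/-!
# Kernels and images of homomorphisms of commutative affine group schemes
-/

set_option autoImplicit false
set_option linter.style.haveILetI false

universe u

open CategoryTheory CategoryTheory.Limits MonoidalCategory CartesianMonoidalCategory MonObj AlgebraicGeometry Opposite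

noncomputable section

namespace Groth.Agent.UnipStruct

section General

variable {S : Scheme.{u}} {G Q : Over S} [GrpObj G] [GrpObj Q] (f : G ⟶ Q) [IsMonHom f]

/-- The kernel of a homomorphism. -/
def kerObj : Over S := pullback f η[Q]

/-- The inclusion of the kernel. -/
def kerι : kerObj f ⟶ G := pullback.fst f η[Q]

theorem isKernel_kerι : AlgGrp.IsKernel (kerι f) f := by
  show IsPullback (kerι f) (toUnit _) f η
  rw [toUnit_unique (toUnit (kerObj f)) (pullback.snd f η[Q])]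
  exact IsPullback.of_hasPullback f η[Q]

/-- Postcomposition with `f`. -/
def post (T : Over S) : (T ⟶ G) →* (T ⟶ Q) where
  toFun x := x ≫ f
  map_one' := MonObj.one_comp f
  map_mul' x y := MonObj.mul_comp x y f

/-- The functor of points of the kernel. -/
def kerF : (Over S)ᵒᵖ ⥤ GrpCat where
  obj T := GrpCat.of (post f T.unop).ker
  map {T T'} g := GrpCat.ofHom
    { toFun := fun x => ⟨g.unop ≫ x.1, by
        show (g.unop ≫ x.1) ≫ f = 1
        rw [Category.assoc, show x.1 ≫ f = 1 from x.2, MonObj.comp_one]⟩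
      map_one' := Subtype.ext (MonObj.comp_one g.unop)
      map_mul' := fun x y => Subtype.ext (MonObj.comp_mul g.unop x.1 y.1) }
  map_id T := GrpCat.hom_ext (MonoidHom.ext fun x => Subtype.ext (Category.id_comp x.1))
  map_comp g h := GrpCat.hom_ext (MonoidHom.ext fun x => Subtype.ext (Category.assoc h.unop g.unop x.1))

theorem kerι_comp {T : Over S} (x : T ⟶ kerObj f) : (x ≫ kerι f) ≫ f = 1 := by
  rw [Category.assoc, AlgGrpLib.kernel_comp (isKernel_kerι f), MonObj.comp_one]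

/-- Points of the kernel. -/
def kerEquiv (T : Over S) : (T ⟶ kerObj f) ≃ (post f T).ker :=
    Equiv.ofBijective (fun x => (⟨x ≫ kerι f, kerι_comp f x⟩ : (post f T).ker))
      ⟨fun x y h => by
        haveI := AlgGrpLib.kernel_mono (isKernel_kerι f)
        exact (cancel_mono (kerι f)).1 (congrArg Subtype.val h),
      fun x => by
        obtain ⟨n, hn⟩ := AlgGrpLib.exists_lift_kernel (isKernel_kerι f) (show x.1 ≫ f = 1 from x.2)
        exact ⟨n, Subtype.ext hn⟩⟩

/-- The kernel represents its functor of points. -/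
def kerRep : (kerF f ⋙ forget _).RepresentableBy (kerObj f) where
  homEquiv {T} := kerEquiv f T
  homEquiv_comp g x := Subtype.ext (Category.assoc g x (kerι f))

instance grpObjKer : GrpObj (kerObj f) := GrpObj.ofRepresentableBy (kerObj f) (kerF f) (kerRep f)

theorem kerι_mul {T : Over S} (x y : T ⟶ kerObj f) : (x * y) ≫ kerι f = (x ≫ kerι f) * (y ≫ kerι f) :=
  by
  have hμ : ∀ {T' : Over S} (z : (post f T').ker),
      (kerEquiv f T').symm z ≫ kerι f = z.1 := fun {T'} z => by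
    obtain ⟨n, rfl⟩ := (kerEquiv f T').surjective z
    rw [Equiv.symm_apply_apply]
    rfl
  change (lift x y ≫ (kerEquiv f _).symm
    ((⟨_, kerι_comp f (fst (kerObj f) (kerObj f))⟩ : (post f (kerObj f ⊗ kerObj f)).ker) * ⟨_, kerι_comp f (snd _ _)⟩)) ≫ kerι f = _
  rw [Category.assoc, hμ]
  show lift x y ≫ ((fst _ _ ≫ kerι f) * (snd _ _ ≫ kerι f)) = _
  rw [MonObj.comp_mul, lift_fst_assoc, lift_snd_assoc]

instance isMonHom_kerι : IsMonHom (kerι f) := by
  have h1 : ∀ {T : Over S}, (1 : T ⟶ kerObj f) ≫ kerι f = 1 := fun {T} => by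
    have h := kerι_mul f (1 : T ⟶ kerObj f) 1
    rw [_root_.one_mul, left_eq_mul] at h
    exact h
  exact WittGrp.isMonHom_of_comp_mul (kerι f) h1 fun T x y => kerι_mul f x y

theorem isClosedImmersion_kerι [IsSeparated Q.hom] : IsClosedImmersion (kerι f).left := by
  haveI : IsClosedImmersion (η[Q].left ≫ Q.hom) := by
    rw [Over.w]; exact (inferInstance : IsClosedImmersion (𝟙 S))
  haveI : IsClosedImmersion η[Q].left := IsClosedImmersion.of_comp η[Q].left Q.hom
  exact MorphismProperty.of_isPullback (P := @IsClosedImmersion)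
    (IsPullback.map (Over.forget _) (isKernel_kerι f)).flip ‹_›

end General

theorem isNormalHom_of_comm {S : Scheme.{u}} {N G : Over S} [GrpObj N] [GrpObj G] [IsCommMonObj G] (i : N ⟶ G) :
    AlgGrp.IsNormalHom i := fun T g n => ⟨n, by rw [_root_.mul_comm g, mul_inv_cancel_right]⟩

theorem isCommMonObj_of_cover {S : Scheme.{u}} {G Q : Over S} [GrpObj G] [GrpObj Q] [IsCommMonObj G] (q : G ⟶ Q)
    [IsMonHom q] [Flat q.left] [Surjective q.left] [QuasiCompact q.left] : IsCommMonObj Q := by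
  refine (isCommMonObj_iff_isMulCommutative Q).2 fun T => ⟨⟨fun x y => ?_⟩⟩
  obtain ⟨T₁, c₁, g₁, _, _, _, e₁⟩ := AlgGrpLib.exists_lift_cover q x
  obtain ⟨T₂, c₂, g₂, _, _, _, e₂⟩ := AlgGrpLib.exists_lift_cover q (c₁ ≫ y)
  haveI : Epi c₁ := Over.epi_of_epi_left _
  haveI : Epi c₂ := Over.epi_of_epi_left _
  rw [← cancel_epi c₁, ← cancel_epi c₂, MonObj.comp_mul, MonObj.comp_mul, MonObj.comp_mul, MonObj.comp_mul, ← e₁,
    ← e₂, ← Category.assoc, ← MonObj.mul_comp, ← MonObj.mul_comp, _root_.mul_comm]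

variable {k : Type u} [Field k]

theorem eq_one_of_mono_on_ker {G Q Z : Over (Spec (CommRingCat.of k))} [GrpObj G] [GrpObj Q] [GrpObj Z]
    [QuasiCompact G.hom] [LocallyOfFiniteType Z.hom] (q : G ⟶ Z) [IsMonHom q] [Flat q.left] [Surjective q.left]
    (j : Z ⟶ Q) [IsMonHom j] (hj : ∀ (T : Over (Spec (CommRingCat.of k))) (g : T ⟶ G), g ≫ q ≫ j = 1 → g ≫ q = 1) :
    Mono j := by
  haveI := AlgGrpLib.quasiCompact_left q
  refine ⟨fun {T} a b h => ?_⟩
  obtain ⟨T', c, g, _, _, _, e⟩ := AlgGrpLib.exists_lift_cover q (a * b⁻¹)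
  haveI : Epi c := Over.epi_of_epi_left _
  have h0 := hj T' g (by
    rw [← Category.assoc, e, Category.assoc, MonObj.mul_comp, GrpObj.inv_comp, h, mul_inv_cancel, MonObj.comp_one])
  rw [e, ← MonObj.comp_one c, cancel_epi] at h0
  exact mul_inv_eq_one.1 h0

/-- Factorisation of a homomorphism through its image. -/
theorem exists_image {G Q : Over (Spec (CommRingCat.of k))} [GrpObj G] [GrpObj Q] [IsCommMonObj G] [IsAffine G.left]
    [IsAffine Q.left] [LocallyOfFiniteType G.hom] [LocallyOfFiniteType Q.hom] (f : G ⟶ Q) [IsMonHom f] :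
    ∃ (Z : Over (Spec (CommRingCat.of k))) (_ : GrpObj Z) (q : G ⟶ Z) (j : Z ⟶ Q), IsMonHom q ∧ IsMonHom j ∧
      IsCommMonObj Z ∧ IsAffine Z.left ∧ LocallyOfFiniteType Z.hom ∧ Flat q.left ∧ Surjective q.left ∧
      IsClosedImmersion j.left ∧ q ≫ j = f := by
  haveI := isClosedImmersion_kerι f
  obtain ⟨Z, _, q, hq, hZ, hZt, hflat, hsurj, hker⟩ :=
    HopfQuot.exists_affine_quotient G (kerObj f) (kerι f) (isNormalHom_of_comm _)
  haveI := AlgGrpLib.quasiCompact_left q
  have hinv : ∀ {T : Over (Spec (CommRingCat.of k))} (a b : T ⟶ G), a ≫ q = b ≫ q → a ≫ f = b ≫ f := fun {T} a b h => by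
    obtain ⟨n, hn⟩ := AlgGrpLib.exists_lift_kernel hker (g := a⁻¹ * b)
      (by rw [MonObj.mul_comp, GrpObj.inv_comp, h, inv_mul_cancel])
    have h1 : (a⁻¹ * b) ≫ f = 1 := by
      rw [← hn, Category.assoc, AlgGrpLib.kernel_comp (isKernel_kerι f), MonObj.comp_one]
    rwa [MonObj.mul_comp, GrpObj.inv_comp, inv_mul_eq_one] at h1
  have hd : ∀ {W : Scheme.{u}} (g₁ g₂ : W ⟶ G.left), g₁ ≫ q.left = g₂ ≫ q.left → g₁ ≫ f.left = g₂ ≫ f.left :=
    fun {W} g₁ g₂ e => by
      let W' : Over (Spec (CommRingCat.of k)) := Over.mk (g₁ ≫ G.hom)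
      let a : W' ⟶ G := Over.homMk g₁
      let b : W' ⟶ G := Over.homMk g₂ (by
        change g₂ ≫ G.hom = g₁ ≫ G.hom
        rw [← Over.w q, ← Category.assoc, ← e, Category.assoc])
      exact congrArg CommaMorphism.left (hinv a b (Over.OverMorphism.ext e))
  let j : Z ⟶ Q := Over.homMk (EffectiveEpi.desc q.left f.left hd) (by
    rw [← cancel_epi q.left, ← Category.assoc, EffectiveEpi.fac, Over.w, Over.w])
  have hqj : q ≫ j = f := Over.OverMorphism.ext (EffectiveEpi.fac q.left f.left hd)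
  haveI : Epi q := Over.epi_of_epi_left q
  have hjmul : ∀ (T : Over (Spec (CommRingCat.of k))) (x y : T ⟶ Z), (x * y) ≫ j = (x ≫ j) * (y ≫ j) := fun T x y => by
    obtain ⟨T₁, c₁, g₁, _, _, _, e₁⟩ := AlgGrpLib.exists_lift_cover q x
    obtain ⟨T₂, c₂, g₂, _, _, _, e₂⟩ := AlgGrpLib.exists_lift_cover q (c₁ ≫ y)
    haveI : Epi c₁ := Over.epi_of_epi_left _
    haveI : Epi c₂ := Over.epi_of_epi_left _
    have key : ∀ (T' : Over (Spec (CommRingCat.of k))) (a b : T' ⟶ G),
        ((a ≫ q) * (b ≫ q)) ≫ j = ((a ≫ q) ≫ j) * ((b ≫ q) ≫ j) := fun T' a b => by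
      rw [← MonObj.mul_comp, Category.assoc, Category.assoc, Category.assoc, hqj, MonObj.mul_comp]
    have h1 : (c₂ ≫ c₁) ≫ x = (c₂ ≫ g₁) ≫ q := by rw [Category.assoc, Category.assoc, e₁]
    have h2 : (c₂ ≫ c₁) ≫ y = g₂ ≫ q := by rw [Category.assoc, e₂]
    rw [← cancel_epi c₁, ← cancel_epi c₂]
    simp only [MonObj.comp_mul, ← Category.assoc]
    rw [h1, h2, key]
  haveI : IsMonHom j := by
    refine WittGrp.isMonHom_of_comp_mul j ?_ hjmul
    have h := hjmul _ (1 : 𝟙_ _ ⟶ Z) 1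
    rw [_root_.one_mul, left_eq_mul] at h
    exact h
  haveI : Mono j := eq_one_of_mono_on_ker q j fun T g hg => by
    rw [hqj] at hg
    obtain ⟨n, hn⟩ := AlgGrpLib.exists_lift_kernel (isKernel_kerι f) hg
    rw [← hn, Category.assoc, AlgGrpLib.kernel_comp hker, MonObj.comp_one]
  haveI := AlgGrpLib.quasiCompact_left j
  exact ⟨Z, inferInstance, q, j, hq, inferInstance, isCommMonObj_of_cover q, hZ, hZt, hflat, hsurj,
    SGA3cLib.isClosedImmersion_of_mono j, hqj⟩

end Groth.Agent.UnipStruct
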