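import Groth.Agent.UnipStruct.Group
import Groth.Agent.WittPts.Sub
import Groth.Agent.WittPts.Hom
import Groth.Agent.HopfQuot.UnipotentInduction
import Groth.Agent.HopfQuot.CocommDiag
import Groth.Agent.HopfLib.ComodFlag
import Mathlib.RingTheory.HopfAlgebra.GroupLike

/-!
# Groups killed by a power of `p` are unipotent; additive functions on their subgroups
-/

set_option autoImplicit false
set_option linter.style.haveILetI false

universe u

open CategoryTheory CategoryTheory.Limits MonoidalCategory CartesianMonoidalCategory MonObj AlgebraicGeometry Opposite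
open WithConv TensorProduct HopfRep Groth.Agent.HopfQuot Groth.Agent.HopfLib

noncomputable section

namespace Groth.Agent.UnipStruct

/-- Some power of `p` kills all points. -/
def Killed {S : Scheme.{u}} (p : ℕ) (G : Over S) [GrpObj G] : Prop :=
  ∃ N : ℕ, ∀ (T : Over S) (x : T ⟶ G), x ^ p ^ N = 1

theorem killed_iff {S : Scheme.{u}} {p : ℕ} {G : Over S} [GrpObj G] :
    Killed p G ↔ ∃ N : ℕ, (𝟙 G : G ⟶ G) ^ p ^ N = 1 :=
  ⟨fun ⟨N, h⟩ => ⟨N, h G _⟩, fun ⟨N, h⟩ => ⟨N, fun T x => by
    have h' : ∀ m : ℕ, x ≫ (𝟙 G : G ⟶ G) ^ m = x ^ m := fun m => by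
      induction m with
      | zero => rw [_root_.pow_zero, _root_.pow_zero, MonObj.comp_one]
      | succ m ih => rw [pow_succ, pow_succ, MonObj.comp_mul, ih, Category.comp_id]
    rw [← h' (p ^ N), h, MonObj.comp_one]⟩⟩

theorem comp_pow' {S : Scheme.{u}} {G H : Over S} [GrpObj G] [GrpObj H] (f : G ⟶ H) [IsMonHom f] {T : Over S}
    (x : T ⟶ G) (m : ℕ) : (x ^ m) ≫ f = (x ≫ f) ^ m := by
  induction m with
  | zero => rw [_root_.pow_zero, _root_.pow_zero, MonObj.one_comp]
  | succ m ih => rw [pow_succ, pow_succ, MonObj.mul_comp, ih]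

theorem Killed.of_mono {S : Scheme.{u}} {p : ℕ} {G H : Over S} [GrpObj G] [GrpObj H] (i : H ⟶ G) [IsMonHom i] [Mono i]
    (h : Killed p G) : Killed p H := by
  obtain ⟨N, hN⟩ := h
  exact ⟨N, fun T x => by rw [← cancel_mono i, comp_pow', hN, MonObj.one_comp]⟩

theorem Killed.of_cover {S : Scheme.{u}} {p : ℕ} {G H : Over S} [GrpObj G] [GrpObj H] (q : G ⟶ H) [IsMonHom q]
    [Flat q.left] [Surjective q.left] [QuasiCompact q.left] (h : Killed p G) : Killed p H := by
  obtain ⟨N, hN⟩ := h
  haveI : Epi q := Over.epi_of_epi_left q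
  refine killed_iff.2 ⟨N, ?_⟩
  rw [← cancel_epi q, MonObj.comp_one]
  have hpow : ∀ m : ℕ, q ≫ (𝟙 H : H ⟶ H) ^ m = q ^ m := fun m => by
    induction m with
    | zero => rw [_root_.pow_zero, _root_.pow_zero, MonObj.comp_one]
    | succ m ih => rw [pow_succ, pow_succ, MonObj.comp_mul, ih, Category.comp_id]
  have h1 := congrArg (· ≫ q) (hN G (𝟙 G))
  simp only [comp_pow', Category.id_comp, MonObj.one_comp] at h1
  rw [hpow, h1]

variable {k : Type u} [Field k]

/-- The function on the test scheme attached to a point of `spec A`. -/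
theorem exists_pt {A : Type u} [CommRing A] [HopfAlgebra k A] {T : Over (Spec (CommRingCat.of k))} [IsAffine T.left] :
    ∃ (R : Type u) (_ : CommRing R) (_ : Algebra k R) (e : (T ⟶ spec (k := k) A) ≃* Pt k A R) (ε : R ≃+* Γ(T.left, ⊤)),
      ∀ (x : T ⟶ spec (k := k) A) (a : A),
        x.left.appTop ((Scheme.ΓSpecIso (CommRingCat.of A)).inv a) = ε ((e x).ofConv a) := by
  let ψ : CommRingCat.of k ⟶ Γ(T.left, ⊤) := (Scheme.ΓSpecIso _).inv ≫ T.hom.appTop
  letI : Algebra k Γ(T.left, ⊤) := ψ.hom.toAlgebra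
  have hψ : T.left.isoSpec.inv ≫ T.hom = Spec.map ψ := by
    rw [Iso.inv_comp_eq, Spec.map_comp]
    erw [Scheme.isoSpec_hom_naturality_assoc]
    simp [← Spec.map_comp, Scheme.isoSpec_Spec_hom]
  let i : T ≅ (Spec (CommRingCat.of Γ(T.left, ⊤))).asOver (Spec (CommRingCat.of k)) :=
    Over.isoMk T.left.isoSpec (by
      show T.left.isoSpec.hom ≫ Spec.map (CommRingCat.ofHom (algebraMap k Γ(T.left, ⊤))) = T.hom
      rw [show CommRingCat.ofHom (algebraMap k Γ(T.left, ⊤)) = ψ from rfl, ← hψ, Iso.hom_inv_id_assoc])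
  let e : (T ⟶ spec (k := k) A) ≃* Pt k A Γ(T.left, ⊤) :=
    { toFun := fun x => (ptSpec (k := k) (A := A)).symm (i.inv ≫ x)
      invFun := fun g => i.hom ≫ ptSpec (k := k) (A := A) g
      left_inv := fun x => by simp
      right_inv := fun g => by simp
      map_mul' := fun x y => by rw [MonObj.comp_mul, map_mul] }
  refine ⟨Γ(T.left, ⊤), inferInstance, inferInstance, e, RingEquiv.refl _, fun x a => ?_⟩
  have hx : x.left = T.left.isoSpec.hom ≫ Spec.map (CommRingCat.ofHom ((e x).ofConv.toRingHom)) := by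
    conv_lhs => rw [← e.symm_apply_apply x]
    rfl
  have hT : T.left.isoSpec.hom.appTop = (Scheme.ΓSpecIso Γ(T.left, ⊤)).hom := Scheme.toSpecΓ_appTop _
  rw [hx]
  refine (congrArg (fun m : CommRingCat.of A ⟶ Γ(T.left, ⊤) => m.hom a) ?_ :
    ((Scheme.ΓSpecIso (CommRingCat.of A)).inv ≫
      (T.left.isoSpec.hom ≫ Spec.map (CommRingCat.ofHom ((e x).ofConv.toRingHom))).appTop).hom a =
      (CommRingCat.ofHom ((e x).ofConv.toRingHom)).hom a)
  rw [Scheme.Hom.comp_appTop, hT, Scheme.ΓSpecIso_naturality, Iso.inv_hom_id_assoc]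

/-- Functions given by primitive elements are additive. -/
theorem appTop_mul_of_primitive {A : Type u} [CommRing A] [HopfAlgebra k A] {T : Over (Spec (CommRingCat.of k))}
    [IsAffine T.left] {a : A} (ha : CoalgebraStruct.comul (R := k) a = a ⊗ₜ[k] (1 : A) + (1 : A) ⊗ₜ[k] a)
    (x y : T ⟶ spec (k := k) A) :
    (x * y).left.appTop ((Scheme.ΓSpecIso (CommRingCat.of A)).inv a) =
      x.left.appTop ((Scheme.ΓSpecIso (CommRingCat.of A)).inv a) +
        y.left.appTop ((Scheme.ΓSpecIso (CommRingCat.of A)).inv a) := by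
  obtain ⟨R, _, _, e, ε, h⟩ := exists_pt (A := A) (T := T)
  rw [h, h, h, map_mul, HopfQuot.mul_apply, ha, map_add, Algebra.TensorProduct.lift_tmul,
    Algebra.TensorProduct.lift_tmul, map_one, map_one, _root_.mul_one, _root_.one_mul, map_add]

theorem isCocomm_of_comm {A : Type u} [CommRing A] [HopfAlgebra k A] [IsCommMonObj (spec (k := k) A)] :
    Coalgebra.IsCocomm k A := by
  have h : (toConv (Algebra.TensorProduct.includeLeft : A →ₐ[k] A ⊗[k] A) : Pt k A (A ⊗[k] A)) *
      toConv Algebra.TensorProduct.includeRight =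
      toConv Algebra.TensorProduct.includeRight * toConv Algebra.TensorProduct.includeLeft :=
    (ptSpec (k := k)).injective (by rw [map_mul, map_mul, _root_.mul_comm])
  refine ⟨LinearMap.ext fun a => ?_⟩
  have h' := congrArg (fun g => g.ofConv a) h
  simp only [HopfQuot.mul_apply] at h'
  refine Eq.trans ?_ (h'.symm.trans ?_)
  · show TensorProduct.comm k A A (CoalgebraStruct.comul a) = _
    induction CoalgebraStruct.comul (R := k) a using TensorProduct.induction_on with
    | zero => simp
    | tmul b c => simp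
    | add v w hv hw => simp [hv, hw]
  · induction CoalgebraStruct.comul (R := k) a using TensorProduct.induction_on with
    | zero => simp
    | tmul b c => simp
    | add v w hv hw => simp [hv, hw]

/-- A group algebraically killed by `p ^ N` with reduced connected ... is unipotent. -/
theorem isUnipotent_of_killed [IsAlgClosed k] {p : ℕ} [Fact p.Prime] [CharP k p] {A : Type u} [CommRing A]
    [HopfAlgebra k A] [IsReduced A] [IsCommMonObj (spec (k := k) A)] (h : Killed p (spec (k := k) A)) :
    HopfRep.IsUnipotent k A := by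
  obtain ⟨N, hN⟩ := h
  haveI := isCocomm_of_comm (k := k) (A := A)
  have hT : IsTrigonalizable k A := isTrigonalizable_of_isCocomm
  have hid : (toConv (AlgHom.id k A) : Pt k A A) ^ p ^ N = 1 :=
    (ptSpec (k := k)).injective (by rw [map_pow, hN, map_one])
  intro V _ _ cV hfin hV
  obtain ⟨S, -, hS, hS1⟩ := exists_succ_trigonalizable hT (S := (⊥ : Submodule k V)) isSubcomod_bot bot_ne_top
  rw [finrank_bot, _root_.zero_add] at hS1
  let cS := ComodSub.Comod.restr cV S hS
  letI := cS
  obtain ⟨⟨v, hv⟩, hv0⟩ : ∃ v : S, v ≠ 0 := by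
    haveI : Nontrivial S := Module.nontrivial_of_finrank_eq_succ hS1
    exact exists_ne 0
  obtain ⟨g, hg, hgv⟩ := exists_groupLike_eigen (V := S) (A := A) hS1 hv0
  have hgp : g ^ p ^ N = 1 := by
    have h1 := congrArg (fun z : Pt k A A => z.ofConv g) hid
    have h2 : ∀ m : ℕ, ((toConv (AlgHom.id k A) : Pt k A A) ^ m).ofConv g = g ^ m := fun m => by
      induction m with
      | zero =>
        rw [_root_.pow_zero, _root_.pow_zero, HopfQuot.one_apply, hg.counit_eq_one, map_one]
      | succ m ih =>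
        rw [pow_succ, pow_succ, HopfQuot.mul_apply, hg.comul_eq_tmul_self, Algebra.TensorProduct.lift_tmul, ih]
        rfl
    rw [h2, HopfQuot.one_apply, hg.counit_eq_one, map_one] at h1
    exact h1
  have hg1 : g = 1 := by
    haveI : Nontrivial A := ⟨⟨0, 1, fun e => by
      have := congrArg (CoalgebraStruct.counit (R := k)) e
      rw [map_zero, Bialgebra.counit_one] at this
      exact zero_ne_one this⟩⟩
    haveI : CharP A p := charP_of_injective_algebraMap (algebraMap k A).injective p
    haveI : ExpChar A p := ExpChar.prime Fact.out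
    have h0 : (g - 1) ^ p ^ N = 0 := by rw [sub_pow_char_pow, hgp, one_pow, sub_self]
    exact sub_eq_zero.1 (IsNilpotent.eq_zero ⟨_, h0⟩)
  rw [Submodule.ne_bot_iff]
  refine ⟨v, ?_, fun e => hv0 (Subtype.ext e)⟩
  have h3 : cS.coact ⟨v, hv⟩ = ⟨v, hv⟩ ⊗ₜ[k] (1 : A) := by rw [← hg1]; exact hgv
  have h4 := congrArg (S.subtype.rTensor A) h3
  rw [ComodSub.restr_coact_coe] at h4
  simpa [HopfRep.fixedPts] using h4

/-- Nontrivial closed subgroups of unipotent groups have nontrivial additive functions. -/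
theorem exists_additive_fn [IsAlgClosed k] {p : ℕ} [Fact p.Prime] [CharP k p] {G K : Over (Spec (CommRingCat.of k))}
    [GrpObj G] [GrpObj K] [IsCommMonObj G] [IsAffine G.left] [Smooth G.hom] (hG : Killed p G) (i : K ⟶ G)
    [IsMonHom i] [IsClosedImmersion i.left] (hK : ¬ IsIso K.hom) :
    ∃ y : K ⟶ WittPts.Wk p k 1, IsMonHom y ∧ y ≠ 1 := by
  haveI : IsAffine K.left := isAffine_of_isAffineHom i.left
  haveI : IsReduced G.left := AbSchLib.isReduced_of_smooth G.hom
  obtain ⟨A, _, _, e, _, _⟩ := exists_spec (k := k) G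
  obtain ⟨B, _, _, e', _, _⟩ := exists_spec (k := k) K
  haveI : Mono i := Over.mono_of_mono_left i
  haveI : Mono e := inferInstance
  haveI : IsCommMonObj (spec (k := k) A) := (isCommMonObj_iff_isMulCommutative _).2 fun T => ⟨⟨fun x y => by
    rw [← cancel_mono e, MonObj.mul_comp, MonObj.mul_comp, _root_.mul_comm]⟩⟩
  haveI : IsIso e.left := inferInstanceAs (IsIso ((Over.forget _).map e))
  haveI : IsReduced (spec (k := k) A).left := isReduced_of_isOpenImmersion e.left
  haveI hA : _root_.IsReduced A := (affine_isReduced_iff (CommRingCat.of A)).1 ‹IsReduced (spec (k := k) A).left›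
  have hU := isUnipotent_of_killed (k := k) (A := A) (hG.of_mono e)
  haveI : IsMonHom (CategoryTheory.inv e) := inferInstanceAs (IsMonHom (asIso e).inv)
  obtain ⟨π, hπ⟩ := exists_specHom (k := k) (A := A) (B := B) (e' ≫ i ≫ CategoryTheory.inv e)
  have hπs : Function.Surjective π := by
    haveI : IsClosedImmersion (Spec.map (CommRingCat.ofHom (π : A →+* B))) := by
      rw [← specHom_left, hπ, Over.comp_left, Over.comp_left]
      haveI : IsIso e'.left := inferInstanceAs (IsIso ((Over.forget _).map e'))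
      haveI : IsIso (CategoryTheory.inv e).left := inferInstanceAs (IsIso ((Over.forget _).map (CategoryTheory.inv e)))
      haveI h1 : IsClosedImmersion e'.left := inferInstance
      haveI h2 : IsClosedImmersion (CategoryTheory.inv e).left := inferInstance
      haveI h3 : IsClosedImmersion (i.left ≫ (CategoryTheory.inv e).left) := inferInstance
      exact MorphismProperty.comp_mem @IsClosedImmersion _ _ h1 h3
    have h := Scheme.Hom.app_surjective (Spec.map (CommRingCat.ofHom (π : A →+* B))) ⊤ (isAffineOpen_top _)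
    have e0 := Scheme.ΓSpecIso_inv_naturality (CommRingCat.ofHom (π : A →+* B))
    intro y
    obtain ⟨z, hz⟩ := h ((Scheme.ΓSpecIso (CommRingCat.of B)).inv y)
    obtain ⟨x, rfl⟩ := (ConcreteCategory.bijective_of_isIso (Scheme.ΓSpecIso (CommRingCat.of A)).inv).2 z
    refine ⟨x, (ConcreteCategory.bijective_of_isIso (Scheme.ΓSpecIso (CommRingCat.of B)).inv).1 ?_⟩
    exact (congrArg (fun f => f.hom x) e0).trans hz
  have hne : ∃ b : B, b ≠ algebraMap k B (CoalgebraStruct.counit (R := k) b) := by
    by_contra hc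
    push Not at hc
    refine hK ?_
    have hb : Function.Bijective (algebraMap k B) := ⟨fun a b h => by
      simpa using congrArg (CoalgebraStruct.counit (R := k)) h, fun b => ⟨_, (hc b).symm⟩⟩
    haveI : IsIso (CommRingCat.ofHom (algebraMap k B)) := (ConcreteCategory.isIso_iff_bijective _).mpr hb
    haveI : IsIso (spec (k := k) B).hom := inferInstanceAs (IsIso (Spec.map (CommRingCat.ofHom (algebraMap k B))))
    haveI : IsIso e'.left := inferInstanceAs (IsIso ((Over.forget _).map e'))
    have hh : e'.left ≫ K.hom = (spec (k := k) B).hom := Over.w e'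
    haveI : IsIso (e'.left ≫ K.hom) := hh ▸ ‹IsIso (spec (k := k) B).hom›
    exact IsIso.of_isIso_comp_left e'.left K.hom
  haveI : IsReduced A := hA
  obtain ⟨a, ha0, ha⟩ := HopfQuot.exists_primitive (k := k) (A := B) (isUnipotent_of_surjective π hπs hU) hne
  let y₀ : spec (k := k) B ⟶ WittPts.Wk p k 1 :=
    WittPts.ofCoeffs fun _ => (Scheme.ΓSpecIso (CommRingCat.of B)).inv a
  have hy : ∀ {T : Over (Spec (CommRingCat.of k))} (x : T ⟶ spec (k := k) B) (j : Fin 1),
      (WittGrp.pts p T (Additive.ofMul (x ≫ y₀))).coeff j = x.left.appTop ((Scheme.ΓSpecIso (CommRingCat.of B)).inv a) :=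
    fun x j => by rw [WittPts.coeff_comp, WittPts.coeff_ofCoeffs]
  haveI : IsMonHom y₀ := by
    have hmul : ∀ (T : Over (Spec (CommRingCat.of k))) (x z : T ⟶ spec (k := k) B),
        (x * z) ≫ y₀ = (x ≫ y₀) * (z ≫ y₀) := fun T x z => by
      let K₂ := spec (k := k) B ⊗ spec (k := k) B
      haveI : IsAffine (spec (k := k) B).left := inferInstanceAs (IsAffine (Spec (CommRingCat.of B)))
      haveI : IsAffineHom (spec (k := k) B).hom := isAffineHom_of_isAffine _
      haveI : IsAffine K₂.left := IsAffine.of_isPullback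
        (IsPullback.of_hasPullback (spec (k := k) B).hom (spec (k := k) B).hom)
      have h2 : (fst _ _ * snd _ _ : K₂ ⟶ spec (k := k) B) ≫ y₀ = (fst _ _ ≫ y₀) * (snd _ _ ≫ y₀) := by
        refine WittPts.pts_ext fun j => ?_
        rw [hy, WittGrp.pts_mul, Fin.fin_one_eq_zero j]
        refine Eq.trans ?_ (WittPts.coeff_add_zero _ _ Nat.zero_lt_one).symm
        rw [appTop_mul_of_primitive ha]
        exact (congrArg₂ (· + ·) (hy _ _) (hy _ _)).symm
      have h3 := lift x z ≫= h2
      rwa [← Category.assoc, MonObj.comp_mul, MonObj.comp_mul, lift_fst, lift_snd, lift_fst_assoc, lift_snd_assoc] at h3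
    refine WittGrp.isMonHom_of_comp_mul y₀ ?_ hmul
    have h := hmul _ (1 : 𝟙_ _ ⟶ spec (k := k) B) 1
    rw [_root_.one_mul, left_eq_mul] at h
    exact h
  haveI : IsMonHom (CategoryTheory.inv e') := inferInstanceAs (IsMonHom (asIso e').inv)
  refine ⟨CategoryTheory.inv e' ≫ y₀, inferInstance, fun h => ha0 ?_⟩
  have h0 : y₀ = 1 := by
    rw [← IsIso.hom_inv_id_assoc e' y₀, h, MonObj.comp_one]
  refine (ConcreteCategory.bijective_of_isIso (Scheme.ΓSpecIso (CommRingCat.of B)).inv).1 ?_
  have h1 := hy (𝟙 _) (0 : Fin 1)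
  rw [Category.id_comp, h0, WittGrp.pts_one, TruncatedWittVector.coeff_zero] at h1
  rw [map_zero]
  exact h1.symm

end Groth.Agent.UnipStruct
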