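import Groth.Agent.UnipStruct.Prod
import Groth.Agent.WittPts.Ext
import Groth.Agent.WittPts.Iso

/-!
# Reading homomorphisms of affine commutative groups on `k`-points
-/

set_option autoImplicit false
set_option linter.style.haveILetI false

universe u

open CategoryTheory CategoryTheory.Limits MonoidalCategory CartesianMonoidalCategory MonObj AlgebraicGeometry Opposite
open Groth.Agent.WittPts

noncomputable section

namespace Groth.Agent.UnipStruct

variable {k : Type u} [Field k]

/-- `k`-points. -/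
abbrev Pnt (X : Over (Sk k)) := 𝟙_ (Over (Sk k)) ⟶ X

/-- Surjective on `k`-points, with finitely many `k`-points in the kernel. -/
def IsogPts {X Y : Over (Sk k)} [GrpObj Y] (f : X ⟶ Y) : Prop :=
  (∀ y : Pnt Y, ∃ x : Pnt X, x ≫ f = y) ∧ {x : Pnt X | x ≫ f = 1}.Finite

theorem IsogPts.comp {X Y Z : Over (Sk k)} [GrpObj X] [GrpObj Y] [GrpObj Z] {f : X ⟶ Y} {g : Y ⟶ Z} [IsMonHom f]
    [IsMonHom g] (hf : IsogPts f) (hg : IsogPts g) : IsogPts (f ≫ g) := by
  refine ⟨fun z => ?_, ?_⟩
  · obtain ⟨y, rfl⟩ := hg.1 z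
    obtain ⟨x, rfl⟩ := hf.1 y
    exact ⟨x, (Category.assoc _ _ _).symm⟩
  · refine Set.Finite.of_finite_fibers (fun x => x ≫ f) (hg.2.subset ?_) fun y _ => ?_
    · rintro _ ⟨x, hx, rfl⟩
      exact (Category.assoc x f g).trans hx
    · rcases Set.eq_empty_or_nonempty ({x : Pnt X | x ≫ f ≫ g = 1} ∩ (fun x => x ≫ f) ⁻¹' {y}) with h | ⟨x₀, -, hx₀⟩
      · rw [h]; exact Set.finite_empty
      refine (hf.2.image (· * x₀)).subset fun x hx => ⟨x * x₀⁻¹, ?_, inv_mul_cancel_right x x₀⟩
      show (x * x₀⁻¹) ≫ f = 1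
      rw [MonObj.mul_comp, GrpObj.inv_comp, show x ≫ f = y from hx.2, show x₀ ≫ f = y from hx₀, mul_inv_cancel]

variable [IsAlgClosed k]

/-- Surjectivity can be checked on `k`-points. -/
theorem surjective_left_of_pts {X Y : Over (Sk k)} [IsAffine X.left] [IsAffine Y.left] [LocallyOfFiniteType X.hom]
    [LocallyOfFiniteType Y.hom] (f : X ⟶ Y) (h : ∀ y : Pnt Y, ∃ x : Pnt X, x ≫ f = y) : Surjective f.left := by
  haveI : JacobsonSpace Y.left := LocallyOfFiniteType.jacobsonSpace Y.hom
  haveI : IsLocallyNoetherian Y.left := LocallyOfFiniteType.isLocallyNoetherian Y.hom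
  haveI : LocallyOfFiniteType (f.left ≫ Y.hom) := by rw [Over.w f]; infer_instance
  haveI : LocallyOfFiniteType f.left := locallyOfFiniteType_of_comp f.left Y.hom
  haveI : LocallyOfFinitePresentation f.left := inferInstance
  refine ⟨fun y => by_contra fun hy => ?_⟩
  have hc : Topology.IsConstructible (Set.range f.left)ᶜ := by
    rw [Topology.isConstructible_compl, ← Set.image_univ]
    exact f.left.isConstructible_image Topology.IsConstructible.univ
  obtain ⟨z, hz, hzc⟩ := exists_closedPoint_of_isConstructible hc ⟨y, hy⟩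
  let q : Pnt Y := Over.homMk (pointOfClosedPoint Y.hom z hzc) (pointOfClosedPoint_comp _ z hzc)
  obtain ⟨x, hx⟩ := h q
  refine hz ⟨x.left (IsLocalRing.closedPoint k), ?_⟩
  have := congrArg (fun s : Pnt Y => s.left (IsLocalRing.closedPoint k)) hx
  exact this.trans (pointOfClosedPoint_apply _ z hzc _)

/-- Points lift along surjective morphisms. -/
theorem pts_surjective {X Y : Over (Sk k)} [LocallyOfFiniteType X.hom] [IsSeparated Y.hom] [LocallyOfFiniteType Y.hom]
    (f : X ⟶ Y) [Surjective f.left] (y : Pnt Y) : ∃ x : Pnt X, x ≫ f = y := by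
  haveI : JacobsonSpace X.left := LocallyOfFiniteType.jacobsonSpace X.hom
  let z := y.left (IsLocalRing.closedPoint k)
  haveI : IsClosedImmersion (y.left ≫ Y.hom) := by rw [Over.w]; exact (inferInstance : IsClosedImmersion (𝟙 (Sk k)))
  haveI : IsClosedImmersion y.left := IsClosedImmersion.of_comp y.left Y.hom
  have hzc : IsClosed ({z} : Set Y.left) := by
    haveI : Subsingleton (Sk k) := inferInstanceAs (Subsingleton (PrimeSpectrum k))
    have hr : Set.range y.left = {z} := Set.ext fun w => ⟨fun ⟨o, ho⟩ => by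
      rw [Set.mem_singleton_iff, ← ho]
      exact congrArg y.left (Subsingleton.elim (α := Sk k) o (IsLocalRing.closedPoint k)),
      fun hw => ⟨IsLocalRing.closedPoint k, hw.symm⟩⟩
    rw [← hr]
    exact y.left.isClosedEmbedding.isClosed_range
  have hne : (f.left ⁻¹' {z}).Nonempty := by
    obtain ⟨a, ha⟩ := f.left.surjective z
    exact ⟨a, ha⟩
  obtain ⟨a, ha, hac⟩ := nonempty_inter_closedPoints hne (hzc.preimage f.left.continuous).isLocallyClosed
  let q : Pnt X := Over.homMk (pointOfClosedPoint X.hom a hac) (pointOfClosedPoint_comp _ a hac)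
  refine ⟨q, Over.OverMorphism.ext (ext_of_apply_closedPoint_eq Y.hom (Over.w (q ≫ f)) (Over.w y) ?_)⟩
  show f.left (q.left (IsLocalRing.closedPoint k)) = z
  rw [show q.left (IsLocalRing.closedPoint k) = a from pointOfClosedPoint_apply X.hom a hac _]
  exact ha

/-- A kernel with finitely many `k`-points is finite. -/
theorem isFinite_kernel_pts {X Y : Over (Sk k)} [GrpObj Y] [IsAffine X.left] [LocallyOfFiniteType X.hom]
    [IsSeparated Y.hom] (f : X ⟶ Y) (h : {x : Pnt X | x ≫ f = 1}.Finite) {N : Over (Sk k)} (i : N ⟶ X)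
    (hN : AlgGrp.IsKernel i f) : IsFinite N.hom := by
  haveI : IsClosedImmersion η[Y].left := by
    haveI : IsClosedImmersion (η[Y].left ≫ Y.hom) := by
      rw [Over.w]; exact (inferInstance : IsClosedImmersion (𝟙 (Sk k)))
    exact IsClosedImmersion.of_comp η[Y].left Y.hom
  haveI : IsClosedImmersion i.left :=
    MorphismProperty.of_isPullback (P := @IsClosedImmersion) (IsPullback.map (Over.forget _) hN).flip ‹_›
  haveI : Mono i := Over.mono_of_mono_left i
  haveI : LocallyOfFiniteType N.hom := by rw [← Over.w i]; infer_instance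
  haveI : JacobsonSpace N.left := LocallyOfFiniteType.jacobsonSpace N.hom
  haveI : Finite (closedPoints N.left) := by
    haveI : Finite {x : Pnt X | x ≫ f = 1} := h.to_subtype
    refine Finite.of_injective (fun z : closedPoints N.left =>
      (⟨Over.homMk (U := 𝟙_ (Over (Sk k))) (pointOfClosedPoint N.hom z.1 z.2) (pointOfClosedPoint_comp _ _ _) ≫ i, ?_⟩ :
        {x : Pnt X | x ≫ f = 1})) fun z z' hzz => ?_
    · show (_ ≫ i) ≫ f = 1
      rw [Category.assoc, AlgGrpLib.kernel_comp hN, MonObj.comp_one]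
    · have h1 := (cancel_mono i).mp (congrArg Subtype.val hzz)
      have h2 := congrArg (fun s : Pnt N => s.left (IsLocalRing.closedPoint k)) h1
      exact Subtype.ext ((pointOfClosedPoint_apply N.hom z.1 z.2 _).symm.trans
        (h2.trans (pointOfClosedPoint_apply N.hom z'.1 z'.2 _)))
  haveI : DiscreteTopology N.left := JacobsonSpace.discreteTopology (Set.toFinite _)
  haveI : IsAffine N.left := isAffine_of_isAffineHom i.left
  haveI : Finite N.left := finite_of_compact_of_discrete
  haveI : LocallyQuasiFinite N.hom := LocallyQuasiFinite.of_finite_preimage_singleton _ fun x => Set.toFinite _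
  exact IsFinite.of_locallyQuasiFinite N.hom

theorem isIsogenyOver_of_isogPts {X Y : Over (Sk k)} [GrpObj Y] [IsAffine X.left] [IsAffine Y.left]
    [LocallyOfFiniteType X.hom] [LocallyOfFiniteType Y.hom] {f : X ⟶ Y} (h : IsogPts f) : SGA7.IsIsogenyOver f := by
  haveI : IsSeparated Y.hom := by
    haveI : IsAffineHom Y.hom := isAffineHom_of_isAffine _
    infer_instance
  exact ⟨surjective_left_of_pts f h.1, fun N i hN => isFinite_kernel_pts f h.2 i hN⟩

theorem isogPts_of_isIsogenyOver {X Y : Over (Sk k)} [GrpObj X] [GrpObj Y] [IsSeparated Y.hom]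
    [LocallyOfFiniteType X.hom] [LocallyOfFiniteType Y.hom] {f : X ⟶ Y} [IsMonHom f] (h : SGA7.IsIsogenyOver f) :
    IsogPts f := by
  haveI := h.1
  refine ⟨pts_surjective f, ?_⟩
  haveI := h.2 _ _ (isKernel_kerι f)
  haveI : Finite (kerObj f).left := by
    haveI : Subsingleton (Sk k) := inferInstanceAs (Subsingleton (PrimeSpectrum k))
    have hu := (kerObj f).hom.finite_preimage (Set.toFinite (Set.univ : Set (Sk k)))
    rw [Set.preimage_univ] at hu
    exact Set.finite_univ_iff.mp hu
  haveI : Finite (Pnt (kerObj f)) := Finite.of_injective (fun q : Pnt (kerObj f) => q.left (IsLocalRing.closedPoint k))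
    fun q q' e => Over.OverMorphism.ext (ext_of_apply_closedPoint_eq _ (Over.w q) (Over.w q') e)
  refine (Set.finite_range fun q : Pnt (kerObj f) => q ≫ kerι f).subset fun x hx => ?_
  obtain ⟨n, hn⟩ := AlgGrpLib.exists_lift_kernel (isKernel_kerι f) hx
  exact ⟨n, hn⟩

/-- A surjective homomorphism onto a reduced group is flat. -/
theorem flat_of_pts {X Y : Over (Sk k)} [GrpObj X] [GrpObj Y] [IsAffine X.left] [IsAffine Y.left]
    [LocallyOfFiniteType X.hom] [LocallyOfFiniteType Y.hom] [IsReduced Y.left] (f : X ⟶ Y) [IsMonHom f]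
    (h : ∀ y : Pnt Y, ∃ x : Pnt X, x ≫ f = y) : Flat f.left ∧ Surjective f.left := by
  haveI := surjective_left_of_pts f h
  exact ⟨AlgGrpLib.flat_hom_of_surjective_algClosed f, inferInstance⟩

section Vec

variable {p : ℕ} [hp : Fact p.Prime] {r : ℕ} {nn : Fin r → ℕ}

/-- Components of a point of the product. -/
def pv (x : Pnt (PW p (Sk k) nn)) (j : Fin r) : TruncatedWittVector p (nn j) k := kv (x ≫ prj p (Sk k) nn j)

theorem pv_mul (x y : Pnt (PW p (Sk k) nn)) (j : Fin r) : pv (x * y) j = pv x j + pv y j := by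
  rw [pv, MonObj.mul_comp, kv_mul]; rfl

theorem pv_one (j : Fin r) : pv (1 : Pnt (PW p (Sk k) nn)) j = 0 := by
  rw [pv, MonObj.one_comp, kv_one]

theorem pv_ext {x y : Pnt (PW p (Sk k) nn)} (h : ∀ j, pv x j = pv y j) : x = y :=
  PW_ext fun j => kv_injective (h j)

/-- A point of the product with given components. -/
def mkPnt (v : ∀ j, TruncatedWittVector p (nn j) k) : Pnt (PW p (Sk k) nn) :=
  tuple fun j => Function.surjInv kv_surjective (v j)

theorem pv_mkPnt (v : ∀ j, TruncatedWittVector p (nn j) k) (j : Fin r) : pv (mkPnt v) j = v j := by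
  rw [pv, mkPnt, tuple_prj, Function.surjInv_eq kv_surjective]

end Vec

end Groth.Agent.UnipStruct
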