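import Groth.Agent.UnipStruct.Group
import Groth.Agent.WittPts.Split

/-!
# Equivariant functions on torsors over affine bases, cocycles on the quotient
-/

set_option autoImplicit false
set_option linter.style.haveILetI false

universe u

open CategoryTheory CategoryTheory.Limits MonoidalCategory CartesianMonoidalCategory MonObj AlgebraicGeometry Opposite
open Groth.Agent.WittPts

noncomputable section

namespace Groth.Agent.UnipStruct

/-- A homomorphism on the kernel extends to an equivariant function. -/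
theorem exists_equivariant (p : ℕ) [Fact p.Prime] {S : Scheme.{u}} {b : ℕ} {K G Q : Over S}
    [GrpObj K] [GrpObj G] [GrpObj Q] [IsCommMonObj G] [IsAffine G.left] [IsAffine Q.left]
    (i : K ⟶ G) [IsMonHom i] (π : G ⟶ Q) [IsMonHom π] [Surjective π.left] [Flat π.left] (hker : AlgGrp.IsKernel i π)
    (y : K ⟶ WittGrp.W p b S) [IsMonHom y] :
    ∃ r : G ⟶ WittGrp.W p b S,
      (∀ (T : Over S) (x : T ⟶ G) (t : T ⟶ K), (x * (t ≫ i)) ≫ r = (x ≫ r) * (t ≫ y)) ∧
        ∀ T : Over S, (1 : T ⟶ G) ≫ r = 1 := by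
  let m : G ⊗ K ⟶ G := fst G K * (snd G K ≫ i)
  have hπi : ∀ {T : Over S} (x : T ⟶ G) (t : T ⟶ K), (x * (t ≫ i)) ≫ π = x ≫ π := fun x t => by
    rw [MonObj.mul_comp, Category.assoc, kernel_comp hker, _root_.mul_one]
  have hliftm : ∀ {T : Over S} (x : T ⟶ G) (t : T ⟶ K), lift x t ≫ m = x * (t ≫ i) := fun x t => by
    simp only [m, MonObj.comp_mul, lift_fst, lift_snd_assoc]
  have hP : IsPullback (fst G K) m π π := by
    have hw : fst G K ≫ π = m ≫ π := (hπi _ _).symm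
    choose d hd using fun c : PullbackCone π π => kernel_lift hker c.fst c.snd c.condition
    refine IsPullback.of_isLimit (c := PullbackCone.mk _ _ hw) (PullbackCone.IsLimit.mk hw
      (fun c => lift c.fst (d c)) (fun c => lift_fst _ _) (fun c => (hliftm _ _).trans (hd c))
      (fun c q h₁ h₂ => ?_))
    refine CartesianMonoidalCategory.hom_ext _ _ (by rw [lift_fst, h₁]) (kernel_mono hker ?_)
    rw [lift_snd]
    refine mul_left_cancel (a := c.fst) ?_
    rw [hd, ← hliftm, ← h₂]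
    congr 1
    rw [← h₁]
    exact hom_ext _ _ (lift_fst _ _) (lift_snd _ _)
  have hPs : IsPullback (fst G K).left m.left π.left π.left := hP.map (Over.forget S)
  let t₁ : G ⊗ (K ⊗ K) ⟶ G := fst _ _
  let t₁₂ : G ⊗ (K ⊗ K) ⟶ G ⊗ K := lift (fst _ _) (snd _ _ ≫ fst _ _)
  let t₁₃ : G ⊗ (K ⊗ K) ⟶ G ⊗ K := lift (fst _ _) ((snd _ _ ≫ fst _ _) * (snd _ _ ≫ snd _ _))
  let t₂₃ : G ⊗ (K ⊗ K) ⟶ G ⊗ K := lift (fst _ _ * ((snd _ _ ≫ fst _ _) ≫ i)) (snd _ _ ≫ snd _ _)
  have hT : IsPullback t₁ t₂₃ π (fst G K ≫ π) := by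
    have hw : t₁ ≫ π = t₂₃ ≫ fst G K ≫ π := by
      simp only [t₁, t₂₃, lift_fst_assoc]; exact (hπi _ _).symm
    choose d hd using fun c : PullbackCone π (fst G K ≫ π) =>
      kernel_lift hker c.fst (c.snd ≫ fst G K) (c.condition.trans (Category.assoc _ _ _).symm)
    refine IsPullback.of_isLimit (c := PullbackCone.mk _ _ hw) (PullbackCone.IsLimit.mk hw
      (fun c => lift c.fst (lift (d c) (c.snd ≫ snd G K))) (fun c => lift_fst _ _) (fun c => ?_)
      (fun c q h₁ h₂ => ?_))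
    · refine CartesianMonoidalCategory.hom_ext _ _ ?_ ?_
      · simp only [t₂₃, Category.assoc, lift_fst, MonObj.comp_mul, lift_snd_assoc, lift_fst_assoc]
        exact hd c
      · simp only [t₂₃, Category.assoc, lift_snd, lift_snd_assoc]
    · refine CartesianMonoidalCategory.hom_ext _ _ (by rw [lift_fst]; exact h₁) ?_
      rw [lift_snd]
      refine CartesianMonoidalCategory.hom_ext _ _ (kernel_mono hker ?_) ?_
      · rw [lift_fst]
        refine mul_left_cancel (a := c.fst) ?_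
        rw [hd, ← h₂, ← h₁]
        simp only [t₂₃, t₁, Category.assoc, lift_fst, MonObj.comp_mul]
      · rw [lift_snd, ← h₂]
        simp only [t₂₃, Category.assoc, lift_snd]
  have hTs : IsPullback t₁.left t₂₃.left π.left ((fst G K).left ≫ π.left) := hT.map (Over.forget S)
  have step : ∀ l ≤ b, ∃ r : G ⟶ WittGrp.W p b S,
      LowZero l (WittGrp.pts p _ (Additive.ofMul ((fst G K ≫ r) * (snd G K ≫ y) * (m ≫ r)⁻¹))) := by
    intro l
    induction l with
    | zero => exact fun _ => ⟨1, lowZero_zero _⟩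
    | succ l ih =>
      intro hl
      obtain ⟨r, hr⟩ := ih (by omega)
      let D : G ⊗ K ⟶ WittGrp.W p b S := (fst G K ≫ r) * (snd G K ≫ y) * (m ≫ r)⁻¹
      let δ := (WittGrp.pts p _ (Additive.ofMul D)).coeff ⟨l, by omega⟩
      have hD : (t₂₃ ≫ D) * (t₁₂ ≫ D) = t₁₃ ≫ D := by
        simp only [D, m, t₁₂, t₁₃, t₂₃, MonObj.comp_mul, GrpObj.comp_inv, lift_fst_assoc, lift_snd_assoc, lift_fst,
          lift_snd, ← Category.assoc, MonObj.mul_comp]
        rw [cocycle_identity]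
        simp only [_root_.mul_assoc]
      have hlow : ∀ t : G ⊗ (K ⊗ K) ⟶ G ⊗ K, LowZero l (WittGrp.pts p _ (Additive.ofMul (t ≫ D))) :=
        fun t i hi => by rw [coeff_comp, hr i hi, map_zero]
      have hδ : t₂₃.left.appTop δ + t₁₂.left.appTop δ = t₁₃.left.appTop δ := by
        have h2 := (lowZero_add (hlow t₂₃) (hlow t₁₂)).2 (by omega : l < b)
        rw [← WittGrp.pts_mul, hD, coeff_comp, coeff_comp, coeff_comp] at h2
        exact h2.symm
      obtain ⟨z, hz⟩ := exists_sub_eq hPs hTs t₁₂.left t₁₃.left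
        (by rw [← Over.comp_left]; exact congrArg CommaMorphism.left (lift_fst _ _))
        (by rw [← Over.comp_left, ← Over.comp_left]; congr 1; simp only [t₁₂, t₂₃, lift_fst, hliftm])
        (by rw [← Over.comp_left]; exact congrArg CommaMorphism.left (lift_fst _ _))
        (by
          rw [← Over.comp_left, ← Over.comp_left]
          congr 1
          simp only [t₁₃, t₂₃, hliftm, MonObj.mul_comp, _root_.mul_assoc])
        δ hδ
      let c : G ⟶ WittGrp.W p b S := ofCoeffs fun j => if (j : ℕ) = l then z else 0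
      refine ⟨r * c, ?_⟩
      have hu : ∀ q : G ⊗ K ⟶ G, LowZero l (WittGrp.pts p _ (Additive.ofMul (q ≫ c))) ∧
          (WittGrp.pts p _ (Additive.ofMul (q ≫ c))).coeff ⟨l, by omega⟩ = q.left.appTop z := fun q => by
        refine ⟨fun j hj => ?_, ?_⟩
        · rw [coeff_comp, coeff_ofCoeffs, if_neg hj.ne, map_zero]
        · rw [coeff_comp, coeff_ofCoeffs, if_pos rfl]
      have hD' : (fst G K ≫ (r * c)) * (snd G K ≫ y) * (m ≫ (r * c))⁻¹ = D * ((fst G K ≫ c) * (m ≫ c)⁻¹) := by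
        simp only [D, MonObj.comp_mul]
        exact defect_identity _ _ _ _ _
      have hc : WittGrp.pts p _ (Additive.ofMul ((fst G K ≫ c) * (m ≫ c)⁻¹)) =
          WittGrp.pts p _ (Additive.ofMul (fst G K ≫ c)) + -WittGrp.pts p _ (Additive.ofMul (m ≫ c)) := by
        rw [WittGrp.pts_mul, ofMul_inv, map_neg]
      rw [hD', WittGrp.pts_mul, hc]
      have hA := lowZero_add (hu (fst G K)).1 (lowZero_neg (hu m).1)
      intro j hj
      rcases Nat.lt_succ_iff_lt_or_eq.mp hj with hj | hj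
      · exact (lowZero_add hr hA.1).1 j hj
      · rw [show j = (⟨l, by omega⟩ : Fin b) from Fin.ext hj, (lowZero_add hr hA.1).2 (by omega),
          hA.2 (by omega), coeff_neg_lowZero (hu m).1, (hu _).2, (hu _).2]
        show δ + _ = 0
        rw [hz]
        abel
  obtain ⟨r₀, hr₀⟩ := step b le_rfl
  have hm₀ : (fst G K ≫ r₀) * (snd G K ≫ y) = m ≫ r₀ :=
    mul_inv_eq_one.1 (WittGrp.pts_injective p _ ((eq_zero_of_lowZero le_rfl hr₀).trans (WittGrp.pts_one p _).symm))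
  let r := r₀ * (toUnit G ≫ η[G] ≫ r₀)⁻¹
  have hr : ∀ (T : Over S) (x : T ⟶ G) (t : T ⟶ K), (x * (t ≫ i)) ≫ r = (x ≫ r) * (t ≫ y) := fun T x t => by
    have h := lift x t ≫= hm₀
    rw [MonObj.comp_mul, lift_fst_assoc, lift_snd_assoc, ← Category.assoc, hliftm] at h
    simp only [r, MonObj.comp_mul, GrpObj.comp_inv, ← h, ← Category.assoc, comp_toUnit]
    exact _root_.mul_right_comm _ _ _
  have hr1 : ∀ T : Over S, (1 : T ⟶ G) ≫ r = 1 := fun T => by
    simp only [r, MonObj.comp_mul, GrpObj.comp_inv, ← Category.assoc, comp_toUnit]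
    exact mul_inv_cancel _
  exact ⟨r, hr, hr1⟩

theorem quotient_identity {A : Type*} [CommGroup A] (X Y Z u v : A) : Z * (u * v) * (X * u)⁻¹ * (Y * v)⁻¹ = Z * X⁻¹ * Y⁻¹ := by
  apply Additive.ofMul.injective
  simp only [ofMul_mul, ofMul_inv]
  abel

theorem cocycle_rearrange {A : Type*} [CommGroup A] (X Y Z : A) : Z = X * Y * (Z * X⁻¹ * Y⁻¹) := by
  apply Additive.ofMul.injective
  simp only [ofMul_mul, ofMul_inv]
  abel

/-- The cocycle on the quotient attached to an equivariant function. -/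
theorem exists_cocycle (p : ℕ) [Fact p.Prime] {S : Scheme.{u}} {b : ℕ} {K G Q : Over S}
    [GrpObj K] [GrpObj G] [GrpObj Q] [IsCommMonObj G]
    (i : K ⟶ G) [IsMonHom i] (π : G ⟶ Q) [IsMonHom π] [Surjective π.left] [Flat π.left] [QuasiCompact π.left]
    (hker : AlgGrp.IsKernel i π) (y : K ⟶ WittGrp.W p b S) [IsMonHom y] (r : G ⟶ WittGrp.W p b S)
    (hr : ∀ (T : Over S) (x : T ⟶ G) (t : T ⟶ K), (x * (t ≫ i)) ≫ r = (x ≫ r) * (t ≫ y)) :
    ∃ F : Q ⊗ Q ⟶ WittGrp.W p b S, ∀ (T : Over S) (x x' : T ⟶ G),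
      (x * x') ≫ r = (x ≫ r) * (x' ≫ r) * (lift (x ≫ π) (x' ≫ π) ≫ F) := by
  let D : G ⊗ G ⟶ WittGrp.W p b S := ((fst G G * snd G G) ≫ r) * (fst G G ≫ r)⁻¹ * (snd G G ≫ r)⁻¹
  have hD : ∀ {T : Over S} (x x' : T ⟶ G), lift x x' ≫ D = ((x * x') ≫ r) * (x ≫ r)⁻¹ * (x' ≫ r)⁻¹ :=
    fun x x' => by
      simp only [D, MonObj.comp_mul, GrpObj.comp_inv, lift_fst_assoc, lift_snd_assoc, ← Category.assoc, lift_fst, lift_snd]
  have hinv : ∀ {T : Over S} (a a' : T ⟶ G ⊗ G), a ≫ (π ⊗ₘ π) = a' ≫ (π ⊗ₘ π) → a ≫ D = a' ≫ D := by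
    intro T a a' h
    have h1 : (a ≫ fst G G) ≫ π = (a' ≫ fst G G) ≫ π := by
      simpa only [Category.assoc, tensorHom_fst] using congrArg (· ≫ fst Q Q) h
    have h2 : (a ≫ snd G G) ≫ π = (a' ≫ snd G G) ≫ π := by
      simpa only [Category.assoc, tensorHom_snd] using congrArg (· ≫ snd Q Q) h
    obtain ⟨d, hd⟩ := WittPts.kernel_lift hker _ _ h1
    obtain ⟨d', hd'⟩ := WittPts.kernel_lift hker _ _ h2
    rw [show a' = lift (a' ≫ fst _ _) (a' ≫ snd _ _) by rw [← comp_lift, lift_fst_snd, Category.comp_id],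
      show a = lift (a ≫ fst _ _) (a ≫ snd _ _) by rw [← comp_lift, lift_fst_snd, Category.comp_id],
      ← hd, ← hd', hD, hD, hr, hr, _root_.mul_mul_mul_comm, ← MonObj.mul_comp d d' i, hr,
      MonObj.mul_comp d d' y, quotient_identity]
  haveI : Flat (π ⊗ₘ π).left ∧ Surjective (π ⊗ₘ π).left ∧ QuasiCompact (π ⊗ₘ π).left :=
    ⟨MorphismProperty.pullback_map (P := @Flat) ‹_› ‹_› (Over.w π).symm (Over.w π).symm,
      MorphismProperty.pullback_map (P := @Surjective) ‹_› ‹_› (Over.w π).symm (Over.w π).symm,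
      MorphismProperty.pullback_map (P := @QuasiCompact) ‹_› ‹_› (Over.w π).symm (Over.w π).symm⟩
  obtain ⟨_, _, _⟩ := this
  have hd : ∀ {W : Scheme.{u}} (g₁ g₂ : W ⟶ (G ⊗ G).left), g₁ ≫ (π ⊗ₘ π).left = g₂ ≫ (π ⊗ₘ π).left →
      g₁ ≫ D.left = g₂ ≫ D.left := fun {W} g₁ g₂ e => by
    let W' : Over S := Over.mk (g₁ ≫ (G ⊗ G).hom)
    let a : W' ⟶ G ⊗ G := Over.homMk g₁
    let b' : W' ⟶ G ⊗ G := Over.homMk g₂ (by
      change g₂ ≫ (G ⊗ G).hom = g₁ ≫ (G ⊗ G).hom
      rw [← Over.w (π ⊗ₘ π), ← Category.assoc, ← e, Category.assoc])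
    exact congrArg CommaMorphism.left (hinv a b' (Over.OverMorphism.ext e))
  let F : Q ⊗ Q ⟶ WittGrp.W p b S := Over.homMk (EffectiveEpi.desc (π ⊗ₘ π).left D.left hd) (by
    rw [← cancel_epi (π ⊗ₘ π).left, ← Category.assoc, EffectiveEpi.fac, Over.w, Over.w])
  have hF : (π ⊗ₘ π) ≫ F = D := Over.OverMorphism.ext (EffectiveEpi.fac (π ⊗ₘ π).left D.left hd)
  refine ⟨F, fun T x x' => ?_⟩
  rw [← lift_map, Category.assoc, hF, hD]
  exact cocycle_rearrange _ _ _

end Groth.Agent.UnipStruct
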