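import Groth.Agent.UnipStruct.Additive
import Groth.Agent.UnipStruct.Torsor
import Groth.Agent.UnipStruct.Pts
import Groth.Agent.AbVarLib.MulIsogeny
import Groth.Agent.AbVarLib.PerfectReduced
import Groth.Agent.AlgSpLib.EtaleAscend

/-!
# Groups killed by `p` are vector groups; additive subgroups in groups killed by a power of `p`
-/

set_option autoImplicit false
set_option linter.style.haveILetI false

universe u

open CategoryTheory CategoryTheory.Limits MonoidalCategory CartesianMonoidalCategory MonObj AlgebraicGeometry Opposite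
open Groth.Agent.WittPts Groth.Agent.UnipStruct.Additive

noncomputable section

namespace Groth.Agent.UnipStruct

variable {p : ℕ} [hp : Fact p.Prime] {k : Type u} [Field k]

/-- The coordinate function of a morphism to `W_1`. -/
def cf {X : Over (Sk k)} (h : X ⟶ Wk p k 1) : Γ(X.left, ⊤) :=
  (WittGrp.pts p X (Additive.ofMul h)).coeff 0

/-- The value at a point of `W_1`. -/
def vl (x : Pnt (Wk p k 1)) : k := (kv x).coeff 0

theorem vl_comp {X : Over (Sk k)} (x : Pnt X) (h : X ⟶ Wk p k 1) : vl (x ≫ h) = Γk k (x.left.appTop (cf h)) := by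
  rw [vl, coeff_kv, cf, WittGrp.coeff_pts]
  rfl

theorem cf_mul {X : Over (Sk k)} (g h : X ⟶ Wk p k 1) : cf (g * h) = cf g + cf h := by
  rw [cf, WittGrp.pts_mul]; exact coeff_add_zero _ _ Nat.zero_lt_one

theorem cf_one {X : Over (Sk k)} : cf (1 : X ⟶ Wk p k 1) = 0 := by
  rw [cf, WittGrp.pts_one, TruncatedWittVector.coeff_zero]

theorem cf_inv {X : Over (Sk k)} (g : X ⟶ Wk p k 1) : cf g⁻¹ = -cf g := by
  rw [eq_neg_iff_add_eq_zero, ← cf_mul, inv_mul_cancel, cf_one]

theorem cf_comp {X Y : Over (Sk k)} (f : X ⟶ Y) (h : Y ⟶ Wk p k 1) : cf (f ≫ h) = f.left.appTop (cf h) :=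
  coeff_comp f h 0

theorem cf_injective {X : Over (Sk k)} {g h : X ⟶ Wk p k 1} (e : cf g = cf h) : g = h :=
  WittPts.pts_ext fun i => by rw [Subsingleton.elim i 0]; exact e

theorem vl_mul (x y : Pnt (Wk p k 1)) : vl (x * y) = vl x + vl y := by
  rw [vl, kv_mul]; exact coeff_add_zero _ _ Nat.zero_lt_one

theorem vl_one : vl (1 : Pnt (Wk p k 1)) = 0 := by rw [vl, kv_one, TruncatedWittVector.coeff_zero]

theorem vl_injective : Function.Injective (vl : Pnt (Wk p k 1) → k) := fun x y h =>
  kv_injective (TruncatedWittVector.ext fun i => by rw [Subsingleton.elim i 0]; exact h)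

theorem vl_surjective : Function.Surjective (vl : Pnt (Wk p k 1) → k) := fun c => by
  obtain ⟨x, hx⟩ := kv_surjective (p := p) (k := k) (n := 1) (TruncatedWittVector.mk p fun _ => c)
  exact ⟨x, by rw [vl, hx, TruncatedWittVector.coeff_mk]⟩

theorem vl_inv (x : Pnt (Wk p k 1)) : vl x⁻¹ = -vl x := by
  rw [eq_neg_iff_add_eq_zero, ← vl_mul, inv_mul_cancel, vl_one]

/-- The endomorphism of `W_1` given by an additive polynomial. -/
def φhom (p : ℕ) [Fact p.Prime] (a : ℕ →₀ k) : Wk p k 1 ⟶ Wk p k 1 :=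
  homOfPoly fun _ => Polynomial.aeval (MvPolynomial.X 0) (poly p a)

theorem vl_φhom (a : ℕ →₀ k) (x : Pnt (Wk p k 1)) : vl (x ≫ φhom p a) = L p a (vl x) := by
  rw [vl, φhom, coeff_kv_homOfPoly, ← eval_poly (p := p) a, ← MvPolynomial.aeval_eq_eval,
    ← Polynomial.aeval_algHom_apply]
  simp [vl]

theorem cf_comp_mem {X : Over (Sk k)} (h : X ⟶ Wk p k 1) (g : Wk p k 1 ⟶ Wk p k 1) [IsMonHom g] :
    cf (h ≫ g) ∈ Ideal.span ({cf h} : Set Γ(X.left, ⊤)) := by
  obtain ⟨P, rfl⟩ := exists_poly g
  have hspan : ∀ Q : MvPolynomial (Fin 1) k,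
      Q - MvPolynomial.C (MvPolynomial.eval 0 Q) ∈ Ideal.span {(MvPolynomial.X 0 : MvPolynomial (Fin 1) k)} := fun Q => by
    induction Q using MvPolynomial.induction_on with
    | C a => simp
    | add u v hu hv => rw [map_add, map_add, add_sub_add_comm]; exact add_mem hu hv
    | mul_X u i hu =>
      rw [Subsingleton.elim i 0]
      simp only [map_mul, MvPolynomial.eval_X, Pi.zero_apply, mul_zero, map_zero, sub_zero]
      exact Ideal.mul_mem_left _ _ (Ideal.mem_span_singleton_self _)
  have h0 : MvPolynomial.eval 0 (P 0) = 0 := by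
    have h1 := vl_one (p := p) (k := k)
    rw [← MonObj.one_comp (homOfPoly (p := p) P), vl, coeff_kv_homOfPoly] at h1
    rw [← h1]
    congr 1
    congr 1
    funext j
    rw [kv_one, TruncatedWittVector.coeff_zero]
    rfl
  have h2 := hspan (P 0)
  rw [h0, map_zero, sub_zero, Ideal.mem_span_singleton] at h2
  obtain ⟨Q, hQ⟩ := h2
  have h3 : cf (homOfPoly (p := p) P) = WittGrp.coord p 0 * cev p k 1 Q := by
    rw [cf, WittGrp.coeff_pts, appTop_coord_homOfPoly, hQ, map_mul, cev, MvPolynomial.eval₂Hom_X']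
  rw [cf_comp, h3, map_mul, Ideal.mem_span_singleton]
  refine Dvd.intro _ (congrArg (· * _) ?_)
  rw [cf, WittGrp.coeff_pts]

/-- Points given by algebra maps. -/
theorem exists_pnt (X : Over (Sk k)) [IsAffine X.left] [LocallyOfFiniteType X.hom] :
    ∃ (_ : Algebra k Γ(X.left, ⊤)), Algebra.FiniteType k Γ(X.left, ⊤) ∧
      (∀ (x : Pnt X) (c : k), Γk k (x.left.appTop (algebraMap k Γ(X.left, ⊤) c)) = c) ∧
      ∀ a : Γ(X.left, ⊤) →ₐ[k] k, ∃ x : Pnt X, ∀ z, Γk k (x.left.appTop z) = a z := by
  let ψ : CommRingCat.of k ⟶ Γ(X.left, ⊤) := (Scheme.ΓSpecIso _).inv ≫ X.hom.appTop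
  letI : Algebra k Γ(X.left, ⊤) := ψ.hom.toAlgebra
  have hψ : X.left.isoSpec.inv ≫ X.hom = Spec.map ψ := by
    rw [Iso.inv_comp_eq, Spec.map_comp]
    erw [Scheme.isoSpec_hom_naturality_assoc]
    simp [← Spec.map_comp, Scheme.isoSpec_Spec_hom]
  haveI hft : Algebra.FiniteType k Γ(X.left, ⊤) :=
    RingHom.finiteType_algebraMap.1
      ((HasRingHomProperty.Spec_iff (P := @LocallyOfFiniteType) (φ := ψ)).mp (by rw [← hψ]; infer_instance) :
        (algebraMap k Γ(X.left, ⊤)).FiniteType)
  refine ⟨‹_›, hft, fun x c => ?_, fun a => ?_⟩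
  · show Γk k (x.left.appTop (X.hom.appTop ((Scheme.ΓSpecIso (CommRingCat.of k)).inv c))) = c
    rw [← CommRingCat.comp_apply X.hom.appTop x.left.appTop, ← Scheme.Hom.comp_appTop, Over.w x]
    exact Iso.inv_hom_id_apply _ _
  refine ⟨Over.homMk (Spec.map (CommRingCat.ofHom a.toRingHom) ≫ X.left.isoSpec.inv) ?_, fun z => ?_⟩
  · rw [Category.assoc, hψ, ← Spec.map_comp]
    rw [show ψ ≫ CommRingCat.ofHom a.toRingHom = 𝟙 _ from CommRingCat.hom_ext a.comp_algebraMap]
    exact Spec.map_id _
  · show Γk k ((Spec.map (CommRingCat.ofHom a.toRingHom) ≫ X.left.isoSpec.inv).appTop z) = a z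
    have hinv : X.left.isoSpec.inv.appTop = (Scheme.ΓSpecIso Γ(X.left, ⊤)).inv := by
      haveI : IsIso X.left.isoSpec.hom.appTop := (inferInstance : IsIso (X.left.isoSpec.hom.app ⊤))
      rw [← cancel_mono (X.left.isoSpec.hom.appTop), ← Scheme.Hom.comp_appTop]
      simp [Scheme.isoSpec]
    rw [Scheme.Hom.comp_appTop, CommRingCat.comp_apply, hinv]
    exact congrArg (fun m : Γ(X.left, ⊤) ⟶ CommRingCat.of k => m z)
      (by rw [Scheme.ΓSpecIso_naturality, ← Category.assoc]; erw [Iso.inv_hom_id, Category.id_comp] :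
        (Scheme.ΓSpecIso Γ(X.left, ⊤)).inv ≫ (Spec.map (CommRingCat.ofHom a.toRingHom)).appTop ≫
          (Scheme.ΓSpecIso (CommRingCat.of k)).hom = CommRingCat.ofHom a.toRingHom)

theorem isMonHom_pow_id {S : Scheme.{u}} {G : Over S} [GrpObj G] [IsCommMonObj G] (m : ℕ) :
    IsMonHom ((𝟙 G : G ⟶ G) ^ m) := by
  have h : ∀ {T : Over S} (x : T ⟶ G), x ≫ (𝟙 G : G ⟶ G) ^ m = x ^ m := fun x => by
    induction m with
    | zero => rw [_root_.pow_zero, _root_.pow_zero, MonObj.comp_one]
    | succ m ih => rw [pow_succ, pow_succ, MonObj.comp_mul, ih, Category.comp_id]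
  exact WittGrp.isMonHom_of_comp_mul _ (by rw [h, one_pow]) fun T x y => by rw [h, h, h, mul_pow]

variable [IsAlgClosed k]

theorem φhom_isMonHom [CharP k p] (a : ℕ →₀ k) : IsMonHom (φhom p a) :=
  isMonHom_of_kv _ fun x y => TruncatedWittVector.ext fun i => by
    rw [Subsingleton.elim i 0]
    refine Eq.trans ?_ (coeff_add_zero _ _ Nat.zero_lt_one).symm
    show vl ((x * y) ≫ φhom p a) = vl (x ≫ φhom p a) + vl (y ≫ φhom p a)
    rw [vl_φhom, vl_φhom, vl_φhom, vl_mul, L_map_add]

theorem isReduced_of_cover {G Z : Over (Sk k)} [IsReduced G.left] (q : G ⟶ Z) [Flat q.left] [Surjective q.left] :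
    IsReduced Z.left :=
  AlgSpLib.isReduced_of_flat_surjective q.left

theorem smooth_of_isReduced (G : Over (Sk k)) [GrpObj G] [IsReduced G.left] [LocallyOfFiniteType G.hom] :
    Smooth G.hom := by
  haveI : GeometricallyReduced G.hom := AbVarLib.geometricallyReduced_of_perfectField G.hom
  exact AbVarLib.smooth_of_geometricallyReduced G

section Reduce

variable [CharP k p] {G : Over (Sk k)} [GrpObj G] [IsCommMonObj G] [IsAffine G.left] [LocallyOfFiniteType G.hom]
  [IsReduced G.left] [ConnectedSpace G.left]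

/-- Joint surjectivity on points. -/
def JointSurj {r : ℕ} (h : Fin r → (G ⟶ Wk p k 1)) : Prop := ∀ c : Fin r → k, ∃ x : Pnt G, ∀ j, vl (x ≫ h j) = c j

/-- Either jointly surjective or subject to an additive relation. -/
theorem jointSurj_or_relation {r : ℕ} (h : Fin r → (G ⟶ Wk p k 1)) [∀ j, IsMonHom (h j)] :
    JointSurj h ∨ ∃ a : Fin r → (ℕ →₀ k), (∃ i, a i ≠ 0) ∧ ∀ x : Pnt G, ∑ j, L p (a j) (vl (x ≫ h j)) = 0 := by
  classical
  obtain ⟨_, hft, hconst, hpt⟩ := exists_pnt G
  let Z : AddSubgroup (Fin r → k) :=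
    { carrier := Set.range fun x : Pnt G => fun j => vl (x ≫ h j)
      add_mem' := by
        rintro _ _ ⟨x, rfl⟩ ⟨y, rfl⟩
        exact ⟨x * y, funext fun j => by simp [MonObj.mul_comp, vl_mul]⟩
      zero_mem' := ⟨1, funext fun j => by simp [MonObj.one_comp, vl_one]⟩
      neg_mem' := by
        rintro _ ⟨x, rfl⟩
        exact ⟨x⁻¹, funext fun j => by simp [GrpObj.inv_comp, vl_inv]⟩ }
  let Ψ : MvPolynomial (Fin r) k →ₐ[k] Γ(G.left, ⊤) := MvPolynomial.aeval fun j => cf (h j)
  have hΨ : ∀ (x : Pnt G) P, Γk k (x.left.appTop (Ψ P)) = MvPolynomial.eval (fun j => vl (x ≫ h j)) P := fun x P => by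
    have e : (Γk k).comp (x.left.appTop.hom.comp (Ψ : MvPolynomial (Fin r) k →+* Γ(G.left, ⊤))) =
        MvPolynomial.eval fun j => vl (x ≫ h j) :=
      MvPolynomial.ringHom_ext (fun c => by simpa [Ψ] using hconst x c) fun j => by simp [Ψ, vl_comp]
    exact DFunLike.congr_fun e P
  by_cases hinj : Function.Injective Ψ
  · left
    haveI : Nonempty (PrimeSpectrum (MvPolynomial (Fin r) k)) := inferInstance
    have hfp : Ψ.toRingHom.FinitePresentation := by
      letI := Ψ.toRingHom.toAlgebra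
      haveI : IsScalarTower k (MvPolynomial (Fin r) k) Γ(G.left, ⊤) := IsScalarTower.of_algHom Ψ
      haveI : Algebra.FiniteType (MvPolynomial (Fin r) k) Γ(G.left, ⊤) :=
        Algebra.FiniteType.of_restrictScalars_finiteType k _ _
      exact Algebra.FinitePresentation.of_finiteType.1 inferInstance
    obtain ⟨D, hD, ⟨P, hP⟩, hDr⟩ := HopfLib.exists_open_subset_range_comap Ψ.toRingHom hfp hinj
    obtain ⟨_, ⟨g, rfl⟩, hPg, hgD⟩ := PrimeSpectrum.isTopologicalBasis_basic_opens.exists_subset_of_mem_open hP hD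
    have hg0 : g ≠ 0 := fun h => hPg (by rw [h]; exact P.asIdeal.zero_mem)
    have hmem : ∀ c : Fin r → k, MvPolynomial.eval c g ≠ 0 → c ∈ Z := fun c hc => by
      let Pc : PrimeSpectrum (MvPolynomial (Fin r) k) :=
        ⟨RingHom.ker (MvPolynomial.eval c), RingHom.ker_isPrime _⟩
      obtain ⟨Q, hQ⟩ := hDr (hgD (show Pc ∈ PrimeSpectrum.basicOpen g from hc))
      obtain ⟨a, ha⟩ := HopfLib.exists_algHom_le_ker (k := k) Q.isPrime.ne_top
      obtain ⟨x, hx⟩ := hpt a
      refine ⟨x, funext fun j => ?_⟩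
      have : (MvPolynomial.X j - MvPolynomial.C (c j) : MvPolynomial (Fin r) k) ∈ Pc.asIdeal := by simp [Pc]
      rw [← hQ] at this
      have h0 : a (Ψ (MvPolynomial.X j - MvPolynomial.C (c j))) = 0 := ha this
      rw [← hx, hΨ, map_sub, MvPolynomial.eval_X, MvPolynomial.eval_C, sub_eq_zero] at h0
      exact h0
    intro c
    haveI := IsAlgClosed.instInfinite (K := k)
    let g' : MvPolynomial (Fin r) k := MvPolynomial.aeval (fun j => MvPolynomial.C (c j) - MvPolynomial.X j) g
    have hg' : ∀ v, MvPolynomial.eval v g' = MvPolynomial.eval (c - v) g := fun v => by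
      show MvPolynomial.eval v (MvPolynomial.aeval (fun j => MvPolynomial.C (c j) - MvPolynomial.X j) g) = _
      rw [MvPolynomial.aeval_def, MvPolynomial.eval_eval₂]
      congr 1
      · ext z; simp
      · funext j; simp
    obtain ⟨v, hv⟩ : ∃ v, MvPolynomial.eval v (g * g') ≠ 0 := by
      by_contra hall
      push Not at hall
      rcases mul_eq_zero.1 (MvPolynomial.funext fun v => by rw [hall, map_zero] : g * g' = 0) with h0 | h0
      · exact hg0 h0
      · refine hg0 (MvPolynomial.funext fun v => ?_)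
        have h2 := hg' (c - v)
        rw [h0, map_zero, sub_sub_cancel] at h2
        rw [map_zero, ← h2]
    rw [map_mul, mul_ne_zero_iff, hg'] at hv
    obtain ⟨x, hx⟩ := add_sub_cancel v c ▸ Z.add_mem (hmem v hv.1) (hmem _ hv.2)
    exact ⟨x, fun j => congrFun hx j⟩
  · right
    rw [injective_iff_map_eq_zero] at hinj
    push Not at hinj
    obtain ⟨P, hP, hP0⟩ := hinj
    obtain ⟨a, ha, ha'⟩ := exists_relation (p := p) Z P hP0 (by
      rintro _ ⟨x, rfl⟩
      rw [← hΨ, hP, map_zero, map_zero])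
    exact ⟨a, ha, fun x => ha' _ ⟨x, rfl⟩⟩

theorem eq_one_of_finite_values (h : G ⟶ Wk p k 1) [IsMonHom h] (S : Set k) (hS : S.Finite)
    (hx : ∀ x : Pnt G, vl (x ≫ h) ∈ S) : h = 1 := by
  rcases values_dichotomy k G (cf h) with ⟨c, hc⟩ | ⟨g, hg, hg'⟩
  · refine hom_ext_kv fun x => TruncatedWittVector.ext fun i => ?_
    rw [Subsingleton.elim i 0]
    show vl (x ≫ h) = vl (x ≫ 1)
    have h1 : c = vl ((1 : Pnt G) ≫ h) := (hc 1).symm.trans (vl_comp _ _).symm
    rw [MonObj.comp_one, vl_one, vl_comp, hc]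
    rw [h1, MonObj.one_comp, vl_one]
  · exfalso
    haveI := IsAlgClosed.instInfinite (K := k)
    obtain ⟨c, hc⟩ := ((Polynomial.finite_setOf_isRoot hg).union hS).exists_notMem
    simp only [Set.mem_union, Set.mem_setOf_eq, Polynomial.IsRoot.def, not_or] at hc
    obtain ⟨x, hx'⟩ := hg' c hc.1
    exact hc.2 (by rw [← hx', ← vl_comp]; exact hx x)

theorem span_le_of_modify {r : ℕ} (h : Fin r → (G ⟶ Wk p k 1)) (i j : Fin r) (hij : i ≠ j)
    (g : Wk p k 1 ⟶ Wk p k 1) [IsMonHom g] :
    Ideal.span (Set.range fun l => cf (h l)) ≤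
      Ideal.span (Set.range fun l => cf (Function.update h j (h j * (h i ≫ g)) l)) := by
  refine Ideal.span_le.2 ?_
  rintro _ ⟨l, rfl⟩
  have hi : cf (h i) ∈ Ideal.span (Set.range fun l => cf (Function.update h j (h j * (h i ≫ g)) l)) :=
    Ideal.subset_span ⟨i, by simp only; rw [Function.update_of_ne hij]⟩
  rcases eq_or_ne l j with rfl | hl
  · have h2 : cf (h l * (h i ≫ g)) ∈ Ideal.span (Set.range fun m => cf (Function.update h l (h l * (h i ≫ g)) m)) :=
      Ideal.subset_span ⟨l, by simp only; rw [Function.update_self]⟩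
    have h3 : cf (h i ≫ g) ∈ Ideal.span (Set.range fun m => cf (Function.update h l (h l * (h i ≫ g)) m)) :=
      Ideal.span_le.2 (Set.singleton_subset_iff.2 hi) (cf_comp_mem (h i) g)
    show cf (h l) ∈ _
    rw [show cf (h l) = cf (h l * (h i ≫ g)) - cf (h i ≫ g) by rw [cf_mul, add_sub_cancel_right]]
    exact sub_mem h2 h3
  · exact Ideal.subset_span ⟨l, by simp only; rw [Function.update_of_ne hl]⟩

/-- Homomorphisms can be replaced by jointly surjective ones generating a larger ideal. -/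
theorem exists_jointSurj : ∀ (r : ℕ) (h : Fin r → (G ⟶ Wk p k 1)), (∀ j, IsMonHom (h j)) →
    ∃ (r' : ℕ) (h' : Fin r' → (G ⟶ Wk p k 1)), (∀ j, IsMonHom (h' j)) ∧ JointSurj h' ∧
      Ideal.span (Set.range fun j => cf (h j)) ≤ Ideal.span (Set.range fun j => cf (h' j)) := by
  intro r
  induction r with
  | zero => exact fun h hh => ⟨0, h, hh, fun c => ⟨1, fun j => j.elim0⟩, le_rfl⟩
  | succ r ih =>
    suffices key : ∀ (N : ℕ) (h : Fin (r + 1) → (G ⟶ Wk p k 1)), (∀ j, IsMonHom (h j)) →
        ∀ a : Fin (r + 1) → (ℕ →₀ k), ∑ j, wt (a j) ≤ N → (∃ i, a i ≠ 0) →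
        (∀ x : Pnt G, ∑ j, L p (a j) (vl (x ≫ h j)) = 0) →
        ∃ (r' : ℕ) (h' : Fin r' → (G ⟶ Wk p k 1)), (∀ j, IsMonHom (h' j)) ∧ JointSurj h' ∧
          Ideal.span (Set.range fun j => cf (h j)) ≤ Ideal.span (Set.range fun j => cf (h' j)) by
      intro h hh
      haveI := hh
      rcases jointSurj_or_relation h with hs | ⟨a, ha, hrel⟩
      · exact ⟨r + 1, h, hh, hs, le_rfl⟩
      · exact key _ h hh a le_rfl ha hrel
    intro N
    induction N using Nat.strong_induction_on with
    | _ N ihN =>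
      intro h hh a hN ⟨i₀, hi₀⟩ hrel
      haveI := hh
      classical
      by_cases hother : ∃ j, j ≠ i₀ ∧ a j ≠ 0
      · obtain ⟨j₀, hj₀, haj₀⟩ := hother
        obtain ⟨i, j, hij, hi, hj, hle⟩ : ∃ i j, i ≠ j ∧ a i ≠ 0 ∧ a j ≠ 0 ∧ wt (a j) ≤ wt (a i) := by
          rcases le_total (wt (a j₀)) (wt (a i₀)) with hle | hle
          · exact ⟨i₀, j₀, hj₀.symm, hi₀, haj₀, hle⟩
          · exact ⟨j₀, i₀, hj₀, haj₀, hi₀, hle⟩
        obtain ⟨a', d, c, -, hlt, e⟩ := exists_cancel (p := p) hi hj hle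
        haveI := φhom_isMonHom (p := p) (Finsupp.single d c)
        let h' := Function.update h j (h j * (h i ≫ φhom p (Finsupp.single d c)))
        have hh' : ∀ l, IsMonHom (h' l) := fun l => by
          rcases eq_or_ne l j with rfl | hl
          · show IsMonHom (Function.update h l _ l)
            rw [Function.update_self]
            exact WittGrp.isMonHom_of_comp_mul _ (by rw [MonObj.comp_mul, MonObj.one_comp, MonObj.one_comp, _root_.one_mul])
              fun T x y => by
                rw [MonObj.comp_mul, MonObj.comp_mul, MonObj.comp_mul, MonObj.mul_comp, MonObj.mul_comp,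
                  _root_.mul_mul_mul_comm]
          · show IsMonHom (Function.update h j _ l)
            rw [Function.update_of_ne hl]
            exact hh l
        obtain ⟨r', h'', H1, H2, H3⟩ := ihN (∑ l, wt (Function.update a i a' l)) (by
            refine lt_of_lt_of_le (Finset.sum_lt_sum (fun l _ => ?_) ⟨i, Finset.mem_univ _, ?_⟩) hN
            · rcases eq_or_ne l i with rfl | hl
              · rw [Function.update_self]; exact hlt.le
              · rw [Function.update_of_ne hl]
            · rw [Function.update_self]; exact hlt)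
          h' hh' (Function.update a i a') le_rfl ⟨j, by rw [Function.update_of_ne hij.symm]; exact hj⟩ (fun x => by
            have e1 : vl (x ≫ h' j) = vl (x ≫ h j) + c * vl (x ≫ h i) ^ p ^ d := by
              show vl (x ≫ Function.update h j _ j) = _
              rw [Function.update_self, MonObj.comp_mul, vl_mul, ← Category.assoc, vl_φhom, L_single]
            rw [← hrel x, ← Finset.sum_erase_add _ _ (Finset.mem_univ i),
              ← Finset.sum_erase_add _ _ (Finset.mem_univ i),
              ← Finset.sum_erase_add _ _ (Finset.mem_erase.2 ⟨hij.symm, Finset.mem_univ j⟩),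
              ← Finset.sum_erase_add _ _ (Finset.mem_erase.2 ⟨hij.symm, Finset.mem_univ j⟩)]
            rw [Function.update_self, Function.update_of_ne hij.symm, e1, L_map_add, e (vl (x ≫ h i)),
              show vl (x ≫ h' i) = vl (x ≫ h i) by show vl (x ≫ Function.update h j _ i) = _; rw [Function.update_of_ne hij]]
            rw [Finset.sum_congr rfl fun l hl => ?_]
            · abel
            · simp only [Finset.mem_erase] at hl
              show L p _ (vl (x ≫ Function.update h j _ l)) = _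
              rw [Function.update_of_ne hl.2.1, Function.update_of_ne hl.1])
        exact ⟨r', h'', H1, H2, (span_le_of_modify h i j hij _).trans H3⟩
      · push Not at hother
        have h1 : h i₀ = 1 := by
          refine eq_one_of_finite_values (h i₀) _ (finite_roots_L hi₀ 0) fun x => ?_
          have := hrel x
          rwa [Finset.sum_eq_single i₀ (fun j _ hj => by rw [hother j hj, L_zero]) (by simp)] at this
        obtain ⟨r', h', H1, H2, H3⟩ := ih (fun l => h (i₀.succAbove l)) fun l => hh _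
        refine ⟨r', h', H1, H2, le_trans (Ideal.span_le.2 ?_) H3⟩
        rintro _ ⟨l, rfl⟩
        rcases eq_or_ne l i₀ with rfl | hl
        · show cf (h l) ∈ _
          rw [h1, cf_one]
          exact zero_mem _
        · obtain ⟨m, rfl⟩ := Fin.exists_succAbove_eq hl
          exact Ideal.subset_span ⟨m, rfl⟩

end Reduce

/-- The vector group of dimension `r`. -/
abbrev Vec (p : ℕ) [Fact p.Prime] (k : Type u) [Field k] (r : ℕ) : Over (Sk k) :=
  PW p (Sk k) fun _ : Fin r => 1

section Cocycle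

variable [CharP k p] {r : ℕ}

/-- The point with given coordinates. -/
def vec (u : Fin r → k) : Pnt (Vec p k r) := tuple fun j => Function.surjInv vl_surjective (u j)

theorem vl_vec (u : Fin r → k) (j : Fin r) :
    vl (vec (p := p) u ≫ prj p (Sk k) (fun _ : Fin r => 1) j) = u j := by
  rw [vec, tuple_prj, Function.surjInv_eq vl_surjective]

theorem vec_vl (x : Pnt (Vec p k r)) : vec (fun j => vl (x ≫ prj p (Sk k) (fun _ : Fin r => 1) j)) = x :=
  PW_ext fun j => vl_injective (vl_vec _ j)

/-- The `s`-th axis. -/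
def axis (p : ℕ) [Fact p.Prime] (k : Type u) [Field k] {r : ℕ} (s : Fin r) : Wk p k 1 ⟶ Vec p k r :=
  tuple fun j => if j = s then 𝟙 _ else 1

theorem comp_axis (s : Fin r) (x : Pnt (Wk p k 1)) :
    x ≫ axis p k s = vec (Pi.single s (vl x)) := by
  refine PW_ext fun j => vl_injective ?_
  rw [vl_vec, Category.assoc, axis, tuple_prj]
  rcases eq_or_ne j s with rfl | h
  · rw [if_pos rfl, Category.comp_id, Pi.single_eq_same]
  · rw [if_neg h, MonObj.comp_one, vl_one, Pi.single_eq_of_ne h]

/-- Values on pairs of vectors. -/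
def vl2 (F : Vec p k r ⊗ Vec p k r ⟶ Wk p k 1) (u v : Fin r → k) : k := vl (lift (vec u) (vec v) ≫ F)

/-- A cocycle on a vector group which is trivial on `p`-fold sums is a coboundary. -/
theorem exists_primitive_fn (F : Vec p k r ⊗ Vec p k r ⟶ Wk p k 1) (hF : IsCoc (vl2 F))
    (hkill : ∀ u, ∑ i ∈ Finset.range p, vl2 F (i • u) u = 0) :
    ∃ g : Vec p k r ⟶ Wk p k 1, ∀ u v,
      vl2 F u v = vl (vec u ≫ g) + vl (vec v ≫ g) - vl (vec (u + v) ≫ g) := by
  classical
  have haxis : ∀ s : Fin r, ∃ g : Wk p k 1 ⟶ Wk p k 1, ∀ a b : k,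
      vl2 F (Pi.single s a) (Pi.single s b) = vl (Function.surjInv vl_surjective a ≫ g) +
        vl (Function.surjInv vl_surjective b ≫ g) - vl (Function.surjInv vl_surjective (a + b) ≫ g) := by
    intro s
    let f := lift (fst _ _ ≫ axis p k s) (snd _ _ ≫ axis p k s) ≫ F
    have hadd : ∀ v w : TruncatedWittVector p 1 k, (v + w).coeff 0 = v.coeff 0 + w.coeff 0 := fun v w =>
      coeff_add_zero v w Nat.zero_lt_one
    have hf : ∀ v w, (ev2 f v w).coeff 0 = vl2 F (Pi.single s (v.coeff 0)) (Pi.single s (w.coeff 0)) := fun v w => by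
      show vl (lift (kp v) (kp w) ≫ f) = _
      simp only [f, vl2, ← Category.assoc, comp_lift, lift_fst, lift_snd, comp_axis]
      congr 2
      rw [vl, vl, kv_kp, kv_kp]
    have hcoc : IsCoc (ev2 f) :=
      ⟨fun v w => WittPts.vec_ext_one (by rw [hf, hf, hF.symm]), fun u v w => WittPts.vec_ext_one (by
        simp only [hadd, hf, Pi.single_add]
        exact hF.assoc _ _ _)⟩
    obtain ⟨g, φ, hφ, hfg⟩ := lazard f hcoc
    haveI := hφ
    have hzero : ∀ t : TruncatedWittVector p 1 k, ev φ t = 0 := fun t => by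
      obtain ⟨w, hw⟩ := exists_smul_eq 1 (n := 2) (lowZero_shift (Nat.le_succ 1) t)
      rw [pow_one] at hw
      let u := TruncatedWittVector.truncate (Nat.le_succ 1) w
      have hw' : p • ev (pad p k (Nat.le_succ 1)) u = WittGrp.shift p (Nat.le_succ 1) t := by
        have hlow : LowZero 1 (w - ev (pad p k (Nat.le_succ 1)) u) :=
          lowZero_of_truncate_eq_zero (Nat.le_succ 1) (by rw [map_sub, truncate_pad, sub_self])
        have h0 : p • (w - ev (pad p k (Nat.le_succ 1)) u) = 0 := by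
          have := (lowZero_pow_smul hlow 1).1
          rw [pow_one] at this
          exact eq_zero_of_lowZero (m := 1 + 1) le_rfl this
        rw [smul_sub, sub_eq_zero] at h0
        rw [← h0, hw]
      have hsum : ∀ m : ℕ, WittGrp.shift p (Nat.le_succ 1) (∑ i ∈ Finset.range m,
          ev2 (carry p k (Nat.le_succ 1) (Nat.le_succ 1)) (i • u) u) =
          m • ev (pad p k (Nat.le_succ 1)) u + ev (pad p k (Nat.le_succ 1)) 0 - ev (pad p k (Nat.le_succ 1)) (m • u) := fun m => by
        induction m with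
        | zero => simp
        | succ m ih =>
          rw [Finset.sum_range_succ, map_add, ih, shift_carry _ _ rfl, succ_nsmul, succ_nsmul]
          abel
      have hpu : p • u = 0 := by simpa using pow_smul_eq_zero (p := p) u (le_refl 1)
      have hσ : ∑ i ∈ Finset.range p, ev2 (carry p k (Nat.le_succ 1) (Nat.le_succ 1)) (i • u) u = t := by
        refine shift_injective (Nat.le_succ 1) ?_
        rw [hsum, hpu, hw', add_sub_cancel_right]
      have htel : ∀ m : ℕ, ∑ i ∈ Finset.range m, (ev g (i • u) + ev g u - ev g (i • u + u)) =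
          m • ev g u + ev g 0 - ev g (m • u) := fun m => by
        induction m with
        | zero => simp
        | succ m ih => rw [Finset.sum_range_succ, ih, succ_nsmul, succ_nsmul]; abel
      have h1 : ∑ i ∈ Finset.range p, ev2 f (i • u) u = 0 := by
        refine WittPts.vec_ext_one ?_
        have hc : ∀ (S : Finset ℕ) (G : ℕ → TruncatedWittVector p 1 k), (∑ i ∈ S, G i).coeff 0 = ∑ i ∈ S, (G i).coeff 0 :=
          fun S G => map_sum (AddMonoidHom.mk' (fun z : TruncatedWittVector p 1 k => z.coeff 0) hadd) G S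
        have hn : ∀ (i : ℕ) (z : TruncatedWittVector p 1 k), (i • z).coeff 0 = i • z.coeff 0 := fun i z =>
          map_nsmul (AddMonoidHom.mk' (fun z : TruncatedWittVector p 1 k => z.coeff 0) hadd) i z
        rw [TruncatedWittVector.coeff_zero, hc, ← hkill (Pi.single s (u.coeff 0))]
        refine Finset.sum_congr rfl fun i _ => ?_
        rw [hf, hn, Pi.single_smul]
      simp only [hfg, Finset.sum_add_distrib] at h1
      rw [htel, hpu, show ∑ i ∈ Finset.range p, ev φ (ev2 (carry p k (Nat.le_succ 1) (Nat.le_succ 1)) (i • u) u) =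
        evHom φ t from (map_sum (evHom φ) _ _).symm.trans (by rw [hσ]), add_sub_cancel_right,
        show p • ev g u = 0 by simpa using pow_smul_eq_zero (p := p) (ev g u) (le_refl 1), zero_add] at h1
      exact h1
    refine ⟨g, fun a b => ?_⟩
    have hk : ∀ z : k, kp (TruncatedWittVector.mk p fun _ : Fin 1 => z) = Function.surjInv vl_surjective z := fun z =>
      vl_injective (by rw [Function.surjInv_eq vl_surjective, vl, kv_kp, TruncatedWittVector.coeff_mk])
    have h := hfg (TruncatedWittVector.mk p fun _ : Fin 1 => a) (TruncatedWittVector.mk p fun _ : Fin 1 => b)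
    rw [hzero, add_zero] at h
    have hab : (TruncatedWittVector.mk p fun _ : Fin 1 => a) + (TruncatedWittVector.mk p fun _ : Fin 1 => b) =
        TruncatedWittVector.mk p fun _ : Fin 1 => a + b :=
      WittPts.vec_ext_one (by rw [hadd]; simp [TruncatedWittVector.coeff_mk])
    rw [hab] at h
    have h' := congrArg (fun z : TruncatedWittVector p 1 k => z.coeff 0) h
    rw [hf, TruncatedWittVector.coeff_mk, TruncatedWittVector.coeff_mk] at h'
    have hsub : ∀ x y : TruncatedWittVector p 1 k, (x - y).coeff 0 = x.coeff 0 - y.coeff 0 := fun x y =>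
      map_sub (AddMonoidHom.mk' (fun z : TruncatedWittVector p 1 k => z.coeff 0) hadd) x y
    rw [h', hsub, hadd]
    simp only [vl, ← hk, kv_comp, kv_kp]
  choose gs hgs using haxis
  let π : ℕ → (Fin r → k) → Fin r → k := fun s u j => if (j : ℕ) < s then u j else 0
  let P : ℕ → (Vec p k r ⟶ Vec p k r) := fun s =>
    tuple fun j => if (j : ℕ) < s then prj p (Sk k) (fun _ : Fin r => 1) j else 1
  have hP : ∀ (s : ℕ) u, vec (p := p) u ≫ P s = vec (π s u) := fun s u => PW_ext fun j => vl_injective (by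
    rw [vl_vec, Category.assoc, tuple_prj]
    simp only [π]
    split_ifs
    · rw [vl_vec]
    · rw [MonObj.comp_one, vl_one])
  have key : ∀ s ≤ r, ∃ g : Vec p k r ⟶ Wk p k 1, ∀ u v,
      vl2 F (π s u) (π s v) = vl (vec u ≫ g) + vl (vec v ≫ g) - vl (vec (u + v) ≫ g) := by
    intro s
    induction s with
    | zero =>
      intro _
      refine ⟨lift (P 0) (P 0) ≫ F, fun u v => ?_⟩
      have h0 : ∀ w, π 0 w = 0 := fun w => funext fun j => if_neg (Nat.not_lt_zero _)
      simp only [← Category.assoc, comp_lift, hP, h0]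
      show vl2 F 0 0 = vl2 F 0 0 + vl2 F 0 0 - vl2 F 0 0
      abel
    | succ s ih =>
      intro hs
      obtain ⟨g, hg⟩ := ih (by omega)
      let s' : Fin r := ⟨s, by omega⟩
      let B : Vec p k r ⟶ Vec p k r := prj p (Sk k) (fun _ : Fin r => 1) s' ≫ axis p k s'
      have hB : ∀ u, vec (p := p) u ≫ B = vec (Pi.single s' (u s')) := fun u => by
        rw [← Category.assoc, comp_axis, vl_vec]
      have hπ : ∀ u, π (s + 1) u = π s u + Pi.single s' (u s') := fun u => funext fun j => by
        simp only [π, Pi.add_apply]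
        rcases eq_or_ne j s' with rfl | hj
        · simp [s']
        · rw [Pi.single_eq_of_ne hj, add_zero]
          have : (j : ℕ) ≠ s := fun h => hj (Fin.ext h)
          exact if_congr ⟨fun h => by omega, fun h => by omega⟩ rfl rfl
      refine ⟨g * (prj p (Sk k) (fun _ : Fin r => 1) s' ≫ gs s') * (lift (P s) B ≫ F)⁻¹, fun u v => ?_⟩
      have hg' : ∀ u, vl (vec u ≫ (g * (prj p (Sk k) (fun _ : Fin r => 1) s' ≫ gs s') * (lift (P s) B ≫ F)⁻¹)) =
          vl (vec u ≫ g) + vl (Function.surjInv vl_surjective (u s') ≫ gs s') - vl2 F (π s u) (Pi.single s' (u s')) :=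
        fun u => by
          rw [MonObj.comp_mul, MonObj.comp_mul, GrpObj.comp_inv, vl_mul, vl_mul, vl_inv, ← sub_eq_add_neg,
            ← Category.assoc (vec u) (lift _ _), comp_lift, hP, hB, ← Category.assoc,
            show vec u ≫ prj p (Sk k) (fun _ : Fin r => 1) s' = Function.surjInv vl_surjective (u s') from
              vl_injective (by rw [vl_vec, Function.surjInv_eq vl_surjective])]
          rfl
      rw [hg', hg', hg', hπ, hπ, hF.add_arg, hg, hgs, Pi.add_apply, Pi.single_add,
        show π s (u + v) = π s u + π s v from funext fun j => by simp only [π, Pi.add_apply]; split_ifs <;> simp]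
      abel
  obtain ⟨g, hg⟩ := key r le_rfl
  have hr : ∀ u, π r u = u := fun u => funext fun j => if_pos j.2
  exact ⟨g, fun u v => by have := hg u v; rwa [hr, hr] at this⟩

end Cocycle

section Main

variable [CharP k p]

theorem isIso_hom_of_trivial_kernel {G Q : Over (Sk k)} [GrpObj G] [GrpObj Q] (f : G ⟶ Q) [IsMonHom f]
    [IsIso (kerObj f).hom] : Mono f := by
  refine ⟨fun {T} x y h => ?_⟩
  obtain ⟨n, hn⟩ := AlgGrpLib.exists_lift_kernel (isKernel_kerι f) (g := x * y⁻¹)
    (by rw [MonObj.mul_comp, GrpObj.inv_comp, h, mul_inv_cancel])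
  have h1 : n = 1 := Over.OverMorphism.ext ((cancel_mono (kerObj f).hom).1 ((Over.w n).trans (Over.w _).symm))
  rw [h1, MonObj.one_comp] at hn
  exact mul_inv_eq_one.1 hn.symm

/-- A connected smooth group killed by `p` is a vector group. -/
theorem exists_iso_vec {G : Over (Sk k)} [GrpObj G] [IsCommMonObj G] [IsAffine G.left] [Smooth G.hom]
    [ConnectedSpace G.left] (hG : ∀ (T : Over (Sk k)) (x : T ⟶ G), x ^ p = 1) :
    ∃ (r : ℕ) (e : G ⟶ Vec p k r), IsMonHom e ∧ IsIso e := by
  haveI : IsReduced G.left := AbSchLib.isReduced_of_smooth G.hom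
  obtain ⟨_, hft, -, -⟩ := exists_pnt G
  haveI : IsNoetherianRing Γ(G.left, ⊤) := Algebra.FiniteType.isNoetherianRing k _
  let 𝒮 : Set (Ideal Γ(G.left, ⊤)) := {I | ∃ (r : ℕ) (h : Fin r → (G ⟶ Wk p k 1)), (∀ j, IsMonHom (h j)) ∧
    JointSurj h ∧ I = Ideal.span (Set.range fun j => cf (h j))}
  obtain ⟨I, ⟨r, h, hh, hs, rfl⟩, hmax⟩ := set_has_maximal_iff_noetherian.2 ‹IsNoetherianRing Γ(G.left, ⊤)› 𝒮
    ⟨_, 0, Fin.elim0, fun j => j.elim0, fun c => ⟨1, fun j => j.elim0⟩, rfl⟩
  haveI := hh
  let f : G ⟶ Vec p k r := tuple h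
  haveI : IsMonHom f := WittGrp.isMonHom_of_comp_mul _
    (PW_ext fun j => by rw [Category.assoc, tuple_prj, MonObj.one_comp, MonObj.one_comp]) fun T x y =>
      PW_ext fun j => by rw [Category.assoc, tuple_prj, MonObj.mul_comp, MonObj.mul_comp, Category.assoc, Category.assoc,
        tuple_prj]
  have hsurj : ∀ u : Pnt (Vec p k r), ∃ x : Pnt G, x ≫ f = u := fun u => by
    obtain ⟨x, hx⟩ := hs fun j => vl (u ≫ prj p (Sk k) (fun _ : Fin r => 1) j)
    exact ⟨x, PW_ext fun j => vl_injective (by rw [Category.assoc, tuple_prj, hx])⟩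
  haveI : LocallyOfFiniteType (Vec p k r).hom := inferInstance
  obtain ⟨hflat, hsur⟩ := flat_of_pts f hsurj
  haveI : QuasiCompact f.left := AlgGrpLib.quasiCompact_left f
  refine ⟨r, f, inferInstance, ?_⟩
  by_cases hK : IsIso (kerObj f).hom
  · haveI : Mono f := isIso_hom_of_trivial_kernel f
    haveI : Mono f.left := inferInstance
    haveI : IsClosedImmersion f.left := SGA3cLib.isClosedImmersion_of_mono f
    haveI : IsIso f.left := isIso_of_isClosedImmersion_of_surjective f.left
    haveI : IsIso ((Over.forget (Sk k)).map f) := ‹IsIso f.left›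
    exact isIso_of_reflects_iso f (Over.forget (Sk k))
  exfalso
  haveI := isClosedImmersion_kerι f
  obtain ⟨y, hy, hy1⟩ := exists_additive_fn (p := p) (G := G) ⟨1, fun T x => by rw [pow_one]; exact hG T x⟩
    (kerι f) hK
  haveI := hy
  obtain ⟨R, hR, hR1⟩ := exists_equivariant p (kerι f) f (isKernel_kerι f) y
  obtain ⟨F, hF⟩ := exists_cocycle p (kerι f) f (isKernel_kerι f) y R hR
  let ρ : Pnt G → k := fun x => vl (x ≫ R)
  have hρ : ∀ x x' : Pnt G, ρ (x * x') = ρ x + ρ x' +
      vl2 F (fun j => vl (x ≫ h j)) (fun j => vl (x' ≫ h j)) := fun x x' => by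
    have hv : ∀ z : Pnt G, vec (fun j => vl (z ≫ h j)) = z ≫ f := fun z =>
      PW_ext fun j => vl_injective (by rw [vl_vec, Category.assoc, tuple_prj])
    show vl ((x * x') ≫ R) = _
    rw [hF, vl_mul, vl_mul, vl2, hv, hv]
  have hpre : ∀ u : Fin r → k, ∃ x : Pnt G, (fun j => vl (x ≫ h j)) = u := fun u => by
    obtain ⟨x, hx⟩ := hs u
    exact ⟨x, funext hx⟩
  have hcoc : IsCoc (vl2 F) := by
    refine ⟨fun a b => ?_, fun a b c => ?_⟩
    · obtain ⟨x, rfl⟩ := hpre a
      obtain ⟨x', rfl⟩ := hpre b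
      have h1 := hρ x x'
      have h2 := hρ x' x
      rw [_root_.mul_comm x' x, h1] at h2
      linear_combination h2
    · obtain ⟨x, rfl⟩ := hpre a
      obtain ⟨x', rfl⟩ := hpre b
      obtain ⟨x'', rfl⟩ := hpre c
      have e : ∀ z z' : Pnt G, (fun j => vl ((z * z') ≫ h j)) = (fun j => vl (z ≫ h j)) + fun j => vl (z' ≫ h j) :=
        fun z z' => funext fun j => by rw [MonObj.mul_comp, vl_mul]; rfl
      have h1 := hρ x x'
      have h2 := hρ (x * x') x''
      have h3 := hρ x' x''
      have h4 := hρ x (x' * x'')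
      rw [e] at h2 h4
      rw [_root_.mul_assoc, h4, h1, h3] at h2
      linear_combination h2
  have hkill : ∀ u, ∑ i ∈ Finset.range p, vl2 F (i • u) u = 0 := fun u => by
    obtain ⟨x, rfl⟩ := hpre u
    have hm : ∀ m : ℕ, ρ (x ^ m) = m • ρ x + ρ 1 - 0 +
        ∑ i ∈ Finset.range m, vl2 F (i • fun j => vl (x ≫ h j)) (fun j => vl (x ≫ h j)) := fun m => by
      induction m with
      | zero => simp
      | succ m ih =>
        have e : (fun j => vl ((x ^ m) ≫ h j)) = m • fun j => vl (x ≫ h j) := by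
          funext j
          have : ∀ i : ℕ, vl ((x ^ i) ≫ h j) = i • vl (x ≫ h j) := fun i => by
            induction i with
            | zero => rw [_root_.pow_zero, MonObj.one_comp, vl_one, zero_smul]
            | succ i ihi => rw [pow_succ, MonObj.mul_comp, vl_mul, ihi, succ_nsmul]
          rw [this, Pi.smul_apply]
        rw [pow_succ, hρ, ih, e, Finset.sum_range_succ, succ_nsmul]
        abel
    have h1 := hm p
    rw [hG] at h1
    have h0 : ρ 1 = 0 := by show vl (1 ≫ R) = 0; rw [hR1, vl_one]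
    rw [h0, nsmul_eq_mul, CharP.cast_eq_zero, zero_mul, zero_add, sub_zero, zero_add] at h1
    exact h1.symm
  obtain ⟨g, hg⟩ := exists_primitive_fn F hcoc hkill
  let Φ : G ⟶ Wk p k 1 := R * (f ≫ g)
  have hΦ : ∀ x : Pnt G, vl (x ≫ Φ) = ρ x + vl (vec (fun j => vl (x ≫ h j)) ≫ g) := fun x => by
    have hv : vec (fun j => vl (x ≫ h j)) = x ≫ f :=
      PW_ext fun j => vl_injective (by rw [vl_vec, Category.assoc, tuple_prj])
    rw [MonObj.comp_mul, vl_mul, hv, Category.assoc]
  haveI : IsMonHom Φ := isMonHom_of_pts Φ fun x x' => vl_injective (by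
    rw [vl_mul, hΦ, hΦ, hΦ, hρ, hg,
      show (fun j => vl ((x * x') ≫ h j)) = (fun j => vl (x ≫ h j)) + fun j => vl (x' ≫ h j) from
        funext fun j => by rw [MonObj.mul_comp, vl_mul]; rfl]
    abel)
  have hiΦ : kerι f ≫ Φ = y := by
    have h1 : kerι f ≫ R = y := by
      have := hR _ 1 (𝟙 (kerObj f))
      rwa [_root_.one_mul, Category.id_comp, Category.id_comp, hR1, _root_.one_mul] at this
    have hg0 : (1 : 𝟙_ (Over (Sk k)) ⟶ Vec p k r) ≫ g = 1 := vl_injective (by
      have := hΦ 1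
      rw [MonObj.one_comp, vl_one, show ρ 1 = 0 by show vl (1 ≫ R) = 0; rw [hR1, vl_one], zero_add] at this
      rw [vl_one, this]
      congr 2
      exact PW_ext fun j => vl_injective (by rw [vl_vec, MonObj.one_comp, MonObj.one_comp, vl_one]))
    rw [MonObj.comp_mul, h1, ← Category.assoc, AlgGrpLib.kernel_comp (isKernel_kerι f),
      ← MonObj.comp_one (toUnit (kerObj f)), Category.assoc, hg0, MonObj.comp_one, _root_.mul_one]
  obtain ⟨r', h', H1, H2, H3⟩ := exists_jointSurj (r + 1) (Fin.cons Φ h) (Fin.cases ‹IsMonHom Φ› hh)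
  refine hmax _ ⟨r', h', H1, H2, rfl⟩ (lt_of_lt_of_le ?_ H3)
  refine lt_of_le_of_ne (Ideal.span_mono ?_) fun e => hy1 ?_
  · rintro _ ⟨j, rfl⟩
    exact ⟨j.succ, by simp⟩
  · have hmem : cf Φ ∈ Ideal.span (Set.range fun j => cf (h j)) := e ▸ Ideal.subset_span ⟨0, by simp⟩
    have h0 : (kerι f).left.appTop (cf Φ) = 0 := by
      refine Submodule.span_induction (p := fun z _ => (kerι f).left.appTop z = 0) ?_ (map_zero _)
        (fun a b _ _ ha hb => by rw [map_add, ha, hb, add_zero])
        (fun c a _ ha => by rw [smul_eq_mul, map_mul, ha, mul_zero]) hmem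
      rintro _ ⟨j, rfl⟩
      rw [← cf_comp, show h j = f ≫ prj p (Sk k) (fun _ : Fin r => 1) j from (tuple_prj h j).symm, ← Category.assoc,
        AlgGrpLib.kernel_comp (isKernel_kerι f), MonObj.one_comp, cf_one]
    rw [← cf_comp, hiΦ] at h0
    exact cf_injective (h0.trans cf_one.symm)

/-- A nontrivial connected smooth group killed by a power of `p` contains the additive group. -/
theorem exists_Ga {G : Over (Sk k)} [GrpObj G] [IsCommMonObj G] [IsAffine G.left] [Smooth G.hom]
    [ConnectedSpace G.left] (hG : Killed p G) (hne : ¬ IsIso G.hom) :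
    ∃ i : Wk p k 1 ⟶ G, IsMonHom i ∧ IsClosedImmersion i.left := by
  haveI : IsReduced G.left := AbSchLib.isReduced_of_smooth G.hom
  classical
  have hex := killed_iff.1 hG
  have hcomp : ∀ {T : Over (Sk k)} (x : T ⟶ G) (m : ℕ), x ≫ (𝟙 G : G ⟶ G) ^ m = x ^ m := fun x m => by
    induction m with
    | zero => rw [_root_.pow_zero, _root_.pow_zero, MonObj.comp_one]
    | succ m ih => rw [pow_succ, pow_succ, MonObj.comp_mul, ih, Category.comp_id]
  obtain ⟨n, hn⟩ : ∃ n, Nat.find hex = n + 1 := by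
    refine Nat.exists_eq_succ_of_ne_zero fun h0 => hne ?_
    have h1 : (𝟙 G : G ⟶ G) = 1 := by
      have := Nat.find_spec hex
      rwa [h0, _root_.pow_zero, _root_.pow_one] at this
    refine ⟨η[G].left, ?_, Over.w η[G]⟩
    have h2 : (1 : G ⟶ G).left = G.hom ≫ η[G].left := by
      rw [show (1 : G ⟶ G) = toUnit G ≫ η[G] from rfl, Over.comp_left]
      congr 1
    rw [← h2, ← h1]
    rfl
  let f : G ⟶ G := (𝟙 G) ^ p ^ n
  have hf : f ≠ 1 := Nat.find_min hex (by omega)
  haveI : IsMonHom f := isMonHom_pow_id _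
  obtain ⟨Z, _, q, j, _, _, _, _, _, _, _, _, hqj⟩ := exists_image f
  haveI : IsReduced Z.left := isReduced_of_cover q
  haveI : Smooth Z.hom := smooth_of_isReduced Z
  haveI : ConnectedSpace Z.left := q.left.surjective.connectedSpace q.left.continuous
  haveI : Epi q := Over.epi_of_epi_left _
  haveI : Mono j := Over.mono_of_mono_left _
  have hZ : ∀ (T : Over (Sk k)) (x : T ⟶ Z), x ^ p = 1 := by
    have hid : ∀ (m : ℕ) (T : Over (Sk k)) (x : T ⟶ Z), x ≫ (𝟙 Z : Z ⟶ Z) ^ m = x ^ m := fun m T x => by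
      induction m with
      | zero => rw [_root_.pow_zero, _root_.pow_zero, MonObj.comp_one]
      | succ m ih => rw [pow_succ, pow_succ, MonObj.comp_mul, ih, Category.comp_id]
    have h0 : (𝟙 Z : Z ⟶ Z) ^ p = 1 := by
      rw [← cancel_epi q, hid, MonObj.comp_one, ← cancel_mono j, comp_pow', MonObj.one_comp, hqj, ← pow_mul,
        ← pow_succ, ← hn]
      exact Nat.find_spec hex
    exact fun T x => by rw [← hid, h0, MonObj.comp_one]
  obtain ⟨r, e, _, _⟩ := exists_iso_vec hZ
  have hr : 0 < r := by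
    refine Nat.pos_of_ne_zero fun h0 => hf ?_
    subst h0
    have h1 : (𝟙 Z : Z ⟶ Z) = 1 := (cancel_mono e).1 (PW_ext fun l => l.elim0)
    rw [← hqj, ← Category.comp_id q, h1, MonObj.comp_one, MonObj.one_comp]
  let ax : Wk p k 1 ⟶ Vec p k r := axis p k ⟨0, hr⟩
  have hax : ∀ l, ax ≫ prj p (Sk k) (fun _ : Fin r => 1) l = if l = ⟨0, hr⟩ then 𝟙 _ else 1 := fun l => tuple_prj _ l
  haveI : IsMonHom ax := WittGrp.isMonHom_of_comp_mul _
    (PW_ext fun l => by
      rw [Category.assoc, hax, MonObj.one_comp (prj p (Sk k) (fun _ : Fin r => 1) l)]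
      split_ifs <;> simp)
    fun T x y => PW_ext fun l => by
      rw [MonObj.mul_comp _ _ (prj p (Sk k) (fun _ : Fin r => 1) l), Category.assoc, Category.assoc, Category.assoc, hax]
      split_ifs <;> simp
  haveI : IsMonHom (CategoryTheory.inv e) := inferInstanceAs (IsMonHom (asIso e).inv)
  haveI : Mono ax := ⟨fun {T} x y hxy => by
    have := congrArg (· ≫ prj p (Sk k) (fun _ : Fin r => 1) ⟨0, hr⟩) hxy
    simpa [ax, axis, tuple_prj] using this⟩
  refine ⟨ax ≫ CategoryTheory.inv e ≫ j, inferInstance, ?_⟩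
  haveI : QuasiCompact (ax ≫ CategoryTheory.inv e ≫ j).left := AlgGrpLib.quasiCompact_left _
  exact SGA3cLib.isClosedImmersion_of_mono _

end Main

end Groth.Agent.UnipStruct
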