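import Groth.Agent.UnipStruct.VecGroup
import Mathlib.RingTheory.KrullDimension.Polynomial

/-!
# Induction along additive subgroups for connected groups killed by a power of `p`
-/

set_option autoImplicit false
set_option linter.style.haveILetI false

universe u

open CategoryTheory CategoryTheory.Limits MonoidalCategory CartesianMonoidalCategory MonObj AlgebraicGeometry Opposite
open Groth.Agent.WittPts

noncomputable section

namespace Groth.Agent.UnipStruct

variable {p : ℕ} [hp : Fact p.Prime] {k : Type u} [Field k] [IsAlgClosed k] [CharP k p]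

/-- An extension of `G'` by the additive group, with an equivariant retraction and a section. -/
structure GaExt (p : ℕ) [Fact p.Prime] {k : Type u} [Field k] (G G' : Over (Sk k)) [GrpObj G] [GrpObj G'] where
  i : Wk p k 1 ⟶ G
  π : G ⟶ G'
  r : G ⟶ Wk p k 1
  s : G' ⟶ G
  isMonHom_i : IsMonHom i
  isMonHom_π : IsMonHom π
  isKernel : AlgGrp.IsKernel i π
  flat : Flat π.left
  surjective : Surjective π.left
  r_mul : ∀ (T : Over (Sk k)) (x : T ⟶ G) (t : T ⟶ Wk p k 1), (x * (t ≫ i)) ≫ r = (x ≫ r) * t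
  r_one : ∀ T : Over (Sk k), (1 : T ⟶ G) ≫ r = 1
  s_π : s ≫ π = 𝟙 G'
  s_r : s ≫ r = 1
  decomp : ∀ (T : Over (Sk k)) (x : T ⟶ G), x = (x ≫ π ≫ s) * ((x ≫ r) ≫ i)

namespace GaExt

variable {G G' : Over (Sk k)} [GrpObj G] [GrpObj G'] (σ : GaExt p G G')

omit [IsAlgClosed k] [CharP k p] in
theorem i_π {T : Over (Sk k)} (t : T ⟶ Wk p k 1) : (t ≫ σ.i) ≫ σ.π = 1 := by
  rw [Category.assoc, WittPts.kernel_comp σ.isKernel]

omit [IsAlgClosed k] [CharP k p] in
theorem π_pair {T : Over (Sk k)} (u : T ⟶ G') (t : T ⟶ Wk p k 1) : ((u ≫ σ.s) * (t ≫ σ.i)) ≫ σ.π = u := by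
  haveI := σ.isMonHom_π
  rw [MonObj.mul_comp, σ.i_π, _root_.mul_one, Category.assoc, σ.s_π, Category.comp_id]

omit [IsAlgClosed k] [CharP k p] in
theorem r_pair {T : Over (Sk k)} (u : T ⟶ G') (t : T ⟶ Wk p k 1) : ((u ≫ σ.s) * (t ≫ σ.i)) ≫ σ.r = t := by
  rw [σ.r_mul, Category.assoc, σ.s_r, MonObj.comp_one, _root_.one_mul]

/-- The product decomposition of the underlying scheme. -/
def iso : G ≅ G' ⊗ Wk p k 1 where
  hom := lift σ.π σ.r
  inv := (fst _ _ ≫ σ.s) * (snd _ _ ≫ σ.i)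
  hom_inv_id := by
    rw [MonObj.comp_mul, lift_fst_assoc, lift_snd_assoc]
    have h := σ.decomp G (𝟙 G)
    rw [Category.id_comp, Category.id_comp] at h
    exact h.symm
  inv_hom_id := by
    rw [comp_lift, σ.π_pair, σ.r_pair, lift_fst_snd]

omit [IsAlgClosed k] [CharP k p] in
theorem pts_surjective (u : Pnt G') : ∃ x : Pnt G, x ≫ σ.π = u :=
  ⟨u ≫ σ.s, by rw [Category.assoc, σ.s_π, Category.comp_id]⟩

end GaExt

/-- Descent of morphisms along a cover. -/
theorem exists_desc {S : Scheme.{u}} {G Q Z : Over S} (q : G ⟶ Q) [Flat q.left] [Surjective q.left]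
    [QuasiCompact q.left] (f : G ⟶ Z) (h : ∀ (T : Over S) (a b : T ⟶ G), a ≫ q = b ≫ q → a ≫ f = b ≫ f) :
    ∃ g : Q ⟶ Z, q ≫ g = f := by
  have hd : ∀ {W : Scheme.{u}} (g₁ g₂ : W ⟶ G.left), g₁ ≫ q.left = g₂ ≫ q.left → g₁ ≫ f.left = g₂ ≫ f.left :=
    fun {W} g₁ g₂ e => by
      let W' : Over S := Over.mk (g₁ ≫ G.hom)
      let a : W' ⟶ G := Over.homMk g₁
      let b : W' ⟶ G := Over.homMk g₂ (by
        change g₂ ≫ G.hom = g₁ ≫ G.hom
        rw [← Over.w q, ← Category.assoc, ← e, Category.assoc])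
      exact congrArg CommaMorphism.left (h W' a b (Over.OverMorphism.ext e))
  exact ⟨Over.homMk (EffectiveEpi.desc q.left f.left hd) (by
    rw [← cancel_epi q.left, ← Category.assoc, EffectiveEpi.fac, Over.w, Over.w]),
    Over.OverMorphism.ext (EffectiveEpi.fac q.left f.left hd)⟩

/-- A homomorphism descends to a homomorphism. -/
theorem isMonHom_desc {S : Scheme.{u}} {G Q Z : Over S} [GrpObj G] [GrpObj Q] [GrpObj Z] (q : G ⟶ Q) [IsMonHom q]
    [Flat q.left] [Surjective q.left] [QuasiCompact q.left] (g : Q ⟶ Z) [IsMonHom (q ≫ g)] : IsMonHom g := by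
  have hmul : ∀ (T : Over S) (x y : T ⟶ Q), (x * y) ≫ g = (x ≫ g) * (y ≫ g) := fun T x y => by
    obtain ⟨T₁, c₁, g₁, _, _, _, e₁⟩ := AlgGrpLib.exists_lift_cover q x
    obtain ⟨T₂, c₂, g₂, _, _, _, e₂⟩ := AlgGrpLib.exists_lift_cover q (c₁ ≫ y)
    haveI : Epi c₁ := Over.epi_of_epi_left _
    haveI : Epi c₂ := Over.epi_of_epi_left _
    have key : ∀ (T' : Over S) (a b : T' ⟶ G),
        ((a ≫ q) * (b ≫ q)) ≫ g = ((a ≫ q) ≫ g) * ((b ≫ q) ≫ g) := fun T' a b => by
      rw [← MonObj.mul_comp, Category.assoc, Category.assoc, Category.assoc, MonObj.mul_comp]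
    have h1 : (c₂ ≫ c₁) ≫ x = (c₂ ≫ g₁) ≫ q := by rw [Category.assoc, Category.assoc, e₁]
    have h2 : (c₂ ≫ c₁) ≫ y = g₂ ≫ q := by rw [Category.assoc, e₂]
    rw [← cancel_epi c₁, ← cancel_epi c₂]
    simp only [MonObj.comp_mul, ← Category.assoc]
    rw [h1, h2, key]
  refine WittGrp.isMonHom_of_comp_mul g ?_ hmul
  have h := hmul _ (1 : 𝟙_ _ ⟶ Q) 1
  rw [_root_.one_mul, left_eq_mul] at h
  exact h

variable {G : Over (Sk k)} [GrpObj G] [IsCommMonObj G] [IsAffine G.left] [Smooth G.hom] [ConnectedSpace G.left]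

/-- The basic step: a quotient by an additive subgroup. -/
theorem exists_gaExt (hG : Killed p G) (hne : ¬ IsIso G.hom) :
    ∃ (G' : Over (Sk k)) (_ : GrpObj G'), IsCommMonObj G' ∧ IsAffine G'.left ∧ Smooth G'.hom ∧
      ConnectedSpace G'.left ∧ Killed p G' ∧ Nonempty (GaExt p G G') := by
  haveI : IsReduced G.left := AbSchLib.isReduced_of_smooth G.hom
  obtain ⟨i, hi, hic⟩ := exists_Ga hG hne
  obtain ⟨Q, _, q, hq, hQ, hQt, hflat, hsurj, hker⟩ :=
    HopfQuot.exists_affine_quotient G (Wk p k 1) i (isNormalHom_of_comm _)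
  haveI := AlgGrpLib.quasiCompact_left q
  haveI : IsReduced Q.left := isReduced_of_cover q
  haveI := isCommMonObj_of_cover q
  haveI : ConnectedSpace Q.left := q.left.surjective.connectedSpace q.left.continuous
  obtain ⟨r, hr, hr1⟩ := exists_equivariant p i q hker (𝟙 (Wk p k 1))
  have hr' : ∀ (T : Over (Sk k)) (x : T ⟶ G) (t : T ⟶ Wk p k 1), (x * (t ≫ i)) ≫ r = (x ≫ r) * t := fun T x t =>
    (hr T x t).trans (by rw [Category.comp_id])
  let m : G ⟶ G := 𝟙 G * (r ≫ i)⁻¹
  have hm : ∀ {T : Over (Sk k)} (x : T ⟶ G), x ≫ m = x * ((x ≫ r) ≫ i)⁻¹ := fun x => by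
    rw [MonObj.comp_mul, GrpObj.comp_inv, Category.comp_id, Category.assoc]
  obtain ⟨s, hs⟩ := exists_desc q m fun T a b h => by
    obtain ⟨t, rfl⟩ := WittPts.kernel_lift hker a b h
    rw [hm, hm, hr', MonObj.mul_comp, mul_inv, _root_.mul_mul_mul_comm, mul_inv_cancel, _root_.mul_one]
  haveI : Epi q := Over.epi_of_epi_left q
  refine ⟨Q, inferInstance, inferInstance, hQ, smooth_of_isReduced Q, inferInstance, hG.of_cover q,
    ⟨⟨i, q, r, s, hi, hq, hker, hflat, hsurj, hr', hr1, ?_, ?_, fun T x => ?_⟩⟩⟩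
  · rw [← cancel_epi q, ← Category.assoc, hs, Category.comp_id]
    show m ≫ q = q
    rw [MonObj.mul_comp, GrpObj.inv_comp, Category.id_comp, Category.assoc, WittPts.kernel_comp hker,
      inv_one, _root_.mul_one]
  · rw [← cancel_epi q, ← Category.assoc, hs, MonObj.comp_one]
    show m ≫ r = 1
    rw [show m = 𝟙 G * (r⁻¹ ≫ i) by rw [GrpObj.inv_comp], hr', Category.id_comp, mul_inv_cancel]
  · rw [hs, hm, inv_mul_cancel_right]

theorem dim_eq_ringKrullDim (X : Over (Sk k)) [IsAffine X.left] :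
    topologicalKrullDim X.left = ringKrullDim Γ(X.left, ⊤) := by
  rw [IsHomeomorph.topologicalKrullDim_eq _ X.left.isoSpec.hom.homeomorph.isHomeomorph]
  exact PrimeSpectrum.topologicalKrullDim_eq_ringKrullDim _

theorem dim_lt_top (X : Over (Sk k)) [IsAffine X.left] [LocallyOfFiniteType X.hom] :
    ∃ n : ℕ, topologicalKrullDim X.left ≤ n := by
  obtain ⟨_, hft, -, -⟩ := exists_pnt X
  obtain ⟨n, f, hf⟩ := (Algebra.FiniteType.iff_quotient_mvPolynomial'').1 hft
  refine ⟨n, ?_⟩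
  rw [dim_eq_ringKrullDim]
  refine (ringKrullDim_le_of_surjective f.toRingHom hf).trans_eq ?_
  rw [MvPolynomial.ringKrullDim_of_isNoetherianRing, ringKrullDim_eq_zero_of_field, zero_add, Nat.card_fin]

/-- A product with the line has larger dimension. -/
theorem dim_gaExt {G' : Over (Sk k)} [GrpObj G'] [IsAffine G'.left] [LocallyOfFiniteType G'.hom] (σ : GaExt p G G') :
    topologicalKrullDim G.left = topologicalKrullDim G'.left + 1 := by
  let e : G.left ≅ (G' ⊗ Wk p k 1).left := (Over.forget (Sk k)).mapIso σ.iso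
  have hpb := (AffineSpace.isPullback_map (n := ULift.{u} (Fin 1)) G'.hom).flip
  let e₁ : (G' ⊗ Wk p k 1).left ≅ 𝔸(ULift.{u} (Fin 1); G'.left) := hpb.isoPullback.symm
  let e₂ := AffineSpace.isoOfIsAffine (ULift.{u} (Fin 1)) G'.left
  rw [IsHomeomorph.topologicalKrullDim_eq _ (e ≪≫ e₁ ≪≫ e₂).hom.homeomorph.isHomeomorph]
  refine (PrimeSpectrum.topologicalKrullDim_eq_ringKrullDim _).trans ?_
  obtain ⟨_, hft, -, -⟩ := exists_pnt G'
  haveI : IsNoetherianRing Γ(G'.left, ⊤) := Algebra.FiniteType.isNoetherianRing k _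
  rw [MvPolynomial.ringKrullDim_of_isNoetherianRing, dim_eq_ringKrullDim]
  simp

/-- Induction over connected groups killed by a power of `p`. -/
theorem killed_induction (motive : ∀ (G : Over (Sk k)) [GrpObj G], Prop)
    (triv : ∀ (G : Over (Sk k)) [GrpObj G], IsIso G.hom → motive G)
    (step : ∀ (G G' : Over (Sk k)) [GrpObj G] [GrpObj G'] [IsCommMonObj G] [IsCommMonObj G'] [IsAffine G.left]
      [IsAffine G'.left] [Smooth G.hom] [Smooth G'.hom] [ConnectedSpace G.left] [ConnectedSpace G'.left],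
      Killed p G → Killed p G' → GaExt p G G' → motive G' → motive G)
    (hG : Killed p G) : motive G := by
  suffices key : ∀ (n : ℕ) (G : Over (Sk k)) [GrpObj G] [IsCommMonObj G] [IsAffine G.left] [Smooth G.hom]
      [ConnectedSpace G.left], Killed p G → topologicalKrullDim G.left ≤ n → motive G by
    obtain ⟨n, hn⟩ := dim_lt_top G
    exact key n G hG hn
  intro n
  induction n with
  | zero =>
    intro G _ _ _ _ _ hG hd
    by_cases hne : IsIso G.hom
    · exact triv G hne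
    obtain ⟨G', _, _, _, _, _, hG', ⟨σ⟩⟩ := exists_gaExt hG hne
    rw [dim_gaExt σ] at hd
    have h0 : (0 : WithBot ℕ∞) ≤ topologicalKrullDim G'.left := by
      rw [dim_eq_ringKrullDim]
      haveI : Nontrivial Γ(G'.left, ⊤) := by
        obtain ⟨x⟩ := (inferInstance : Nonempty G'.left)
        haveI : Nonempty (⊤ : G'.left.Opens) := ⟨⟨x, trivial⟩⟩
        exact Scheme.component_nontrivial _ _
      exact ringKrullDim_nonneg_of_nontrivial
    exact absurd ((add_le_add_left h0 1).trans hd) (by decide)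
  | succ n ih =>
    intro G _ _ _ _ _ hG hd
    by_cases hne : IsIso G.hom
    · exact triv G hne
    obtain ⟨G', _, _, _, _, _, hG', ⟨σ⟩⟩ := exists_gaExt hG hne
    refine step G G' hG hG' σ (ih G' hG' ?_)
    rw [dim_gaExt σ] at hd
    cases h : topologicalKrullDim G'.left with
    | bot => exact bot_le
    | coe a =>
      rw [h] at hd
      cases a with
      | top =>
        have h1 : ((⊤ + 1 : ℕ∞) : WithBot ℕ∞) ≤ (((n + 1 : ℕ) : ℕ∞) : WithBot ℕ∞) := hd
        exact absurd (WithBot.coe_le_coe.1 h1) (by rw [top_add]; exact not_le.2 (ENat.coe_lt_top _))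
      | coe m =>
        have : ((m + 1 : ℕ) : WithBot ℕ∞) ≤ ((n + 1 : ℕ) : WithBot ℕ∞) := by exact_mod_cast hd
        have h' : m + 1 ≤ n + 1 := by exact_mod_cast this
        exact_mod_cast (show m ≤ n by omega)

end Groth.Agent.UnipStruct
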