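import Groth.Agent.UnipStruct.Step
import Groth.Agent.UnipStruct.Unip
import Groth.Agent.HopfLib.UnipotentPrimitive

/-!
# Connected commutative unipotent groups are affine spaces
-/

set_option autoImplicit false
set_option linter.style.haveILetI false

universe u

open CategoryTheory CategoryTheory.Limits MonoidalCategory CartesianMonoidalCategory MonObj AlgebraicGeometry Opposite
open Groth.Agent.WittPts Groth.Agent.HopfQuot

noncomputable section

namespace Groth.Agent.UnipStruct

variable {k : Type u} [Field k] [IsAlgClosed k]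

/-- Adding a coordinate to a vector group. -/
def vecSucc (p : ℕ) [Fact p.Prime] (k : Type u) [Field k] (d : ℕ) : Vec p k d ⊗ Wk p k 1 ≅ Vec p k (d + 1) where
  hom := tuple (Fin.cases (snd _ _) fun j => fst _ _ ≫ prj p (Sk k) (fun _ : Fin d => 1) j)
  inv := lift (tuple fun j => prj p (Sk k) (fun _ : Fin (d + 1) => 1) j.succ) (prj p (Sk k) (fun _ : Fin (d + 1) => 1) 0)
  hom_inv_id := by
    refine CartesianMonoidalCategory.hom_ext _ _ (PW_ext fun j => ?_) ?_
    · simp only [Category.assoc, lift_fst_assoc, Category.id_comp]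
      rw [tuple_prj]
      exact tuple_prj _ _
    · rw [Category.assoc, lift_snd, Category.id_comp]
      exact tuple_prj _ _
  inv_hom_id := PW_ext fun j => by
    rw [Category.assoc, Category.id_comp, tuple_prj]
    induction j using Fin.cases with
    | zero => exact lift_snd _ _
    | succ j =>
      show lift _ _ ≫ fst _ _ ≫ prj p (Sk k) (fun _ : Fin d => 1) j = _
      rw [lift_fst_assoc, tuple_prj]

theorem exists_iso_Vec_of_killed {p : ℕ} [Fact p.Prime] [CharP k p] {G : Over (Sk k)} [GrpObj G] [IsCommMonObj G]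
    [IsAffine G.left] [Smooth G.hom] [ConnectedSpace G.left] (hG : Killed p G) :
    ∃ d, Nonempty (G ≅ Vec p k d) := by
  refine killed_induction (fun G _ => ∃ d, Nonempty (G ≅ Vec p k d)) (fun G _ hiso => ?_) ?_ hG
  · haveI := hiso
    refine ⟨0, ⟨tuple (fun j => j.elim0), toUnit _ ≫ η[G], ?_, PW_ext fun j => j.elim0⟩⟩
    exact Over.OverMorphism.ext ((cancel_mono G.hom).1 ((Over.w _).trans (Over.w _).symm))
  · intro G G' _ _ _ _ _ _ _ _ _ _ _ _ σ ⟨d, ⟨e⟩⟩
    exact ⟨d + 1, ⟨σ.iso ≪≫ (MonoidalCategory.whiskerRightIso e _) ≪≫ vecSucc p k d⟩⟩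

theorem exists_iso_mvPolynomial_charP {p : ℕ} [Fact p.Prime] [CharP k p] {G : Over (Sk k)} [GrpObj G] [IsCommMonObj G]
    [IsAffine G.left] [Smooth G.hom] [ConnectedSpace G.left] (hG : Killed p G) :
    ∃ (n : ℕ) (e : G.left ≅ Spec (CommRingCat.of (MvPolynomial (Fin n) k))),
      e.hom ≫ Spec.map (CommRingCat.ofHom (algebraMap k (MvPolynomial (Fin n) k))) = G.hom := by
  obtain ⟨d, ⟨e⟩⟩ := exists_iso_Vec_of_killed hG
  obtain ⟨⟨e', he'⟩⟩ := nonempty_iso_PW p (fun _ : Fin d => 1) k
  refine ⟨_, (Over.forget _).mapIso e ≪≫ e', ?_⟩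
  show (e.hom.left ≫ e'.hom) ≫ Spec.map _ = G.hom
  rw [Category.assoc, he']
  exact Over.w e.hom

theorem exists_iso_mvPolynomial_charZero [CharZero k] {G : Over (Sk k)} [GrpObj G] [IsCommMonObj G]
    [IsAffine G.left] [Smooth G.hom] [ConnectedSpace G.left] (hG : Red.HasNoSubtorus k G) :
    ∃ (n : ℕ) (e : G.left ≅ Spec (CommRingCat.of (MvPolynomial (Fin n) k))),
      e.hom ≫ Spec.map (CommRingCat.ofHom (algebraMap k (MvPolynomial (Fin n) k))) = G.hom := by
  obtain ⟨A, _, _, e, _, _⟩ := exists_spec (k := k) G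
  haveI := finiteType_of_iso e
  have hU := isUnipotent_of_hasNoSubtorus hG e
  haveI : IsCommMonObj (spec (k := k) A) := (isCommMonObj_iff_isMulCommutative _).2 fun T => ⟨⟨fun x y => by
    rw [← cancel_mono e, MonObj.mul_comp, MonObj.mul_comp, _root_.mul_comm]⟩⟩
  haveI := isCocomm_of_comm (k := k) (A := A)
  haveI := HopfLib.finite_range_logMap hU
  let b := Module.finBasis k (LinearMap.range (HopfLib.logMap hU (AlgHom.id k A)))
  have hind := HopfLib.algebraicIndependent_of_linearIndependent_primitive hU b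
  let φ : MvPolynomial (Fin (Module.finrank k (LinearMap.range (HopfLib.logMap hU (AlgHom.id k A))))) k →ₐ[k] A :=
    MvPolynomial.aeval fun i => (b i : A)
  have hbij : Function.Bijective φ := by
    refine ⟨hind, AlgHom.range_eq_top φ |>.1 (eq_top_iff.2 ?_)⟩
    rw [← HopfLib.adjoin_range_logMap hU, Algebra.adjoin_le_iff]
    rintro _ ⟨a, rfl⟩
    have hmem : (⟨_, LinearMap.mem_range_self (HopfLib.logMap hU (AlgHom.id k A)) a⟩ :
        LinearMap.range (HopfLib.logMap hU (AlgHom.id k A))) ∈ Submodule.span k (Set.range b) := by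
      rw [b.span_eq]; trivial
    have hle : Submodule.span k (Set.range b) ≤
        (Subalgebra.toSubmodule φ.range).comap (Submodule.subtype _) := by
      rw [Submodule.span_le]
      rintro _ ⟨i, rfl⟩
      exact ⟨MvPolynomial.X i, MvPolynomial.aeval_X _ _⟩
    exact hle hmem
  haveI : IsIso e.left := inferInstanceAs (IsIso ((Over.forget _).map e))
  let ρ := (AlgEquiv.ofBijective φ hbij).toRingEquiv.toCommRingCatIso
  haveI : IsIso ρ.hom := inferInstance
  refine ⟨_, (asIso e.left).symm ≪≫ Scheme.Spec.mapIso ρ.op, ?_⟩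
  rw [Iso.trans_hom, Iso.symm_hom, asIso_inv, Category.assoc, IsIso.inv_comp_eq, Over.w e]
  show Spec.map ρ.hom ≫ Spec.map (CommRingCat.ofHom (algebraMap k _)) = Spec.map (CommRingCat.ofHom (algebraMap k A))
  rw [← Spec.map_comp]
  exact congrArg Spec.map (CommRingCat.hom_ext φ.comp_algebraMap)

end Groth.Agent.UnipStruct
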