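import Groth.Agent.UnipStruct.Affine
import Groth.Agent.WittPts.Classify

/-!
# Connected unipotent groups are quotients of products of Witt groups by connected subgroups
-/

set_option autoImplicit false
set_option linter.style.haveILetI false

universe u

open CategoryTheory CategoryTheory.Limits MonoidalCategory CartesianMonoidalCategory MonObj AlgebraicGeometry Opposite
open Groth.Agent.WittPts Groth.Agent.HopfQuot

noncomputable section

namespace Groth.Agent.UnipStruct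

variable {p : ℕ} [hp : Fact p.Prime] {k : Type u} [Field k]

section Sums

variable {S : Scheme.{u}} {X Y Z : Over S} [GrpObj Y] [IsCommMonObj Y] {J : Type*}

theorem comp_prod {T : Over S} (x : T ⟶ X) (s : Finset J) (f : J → (X ⟶ Y)) :
    x ≫ (∏ j ∈ s, f j) = ∏ j ∈ s, (x ≫ f j) :=
  map_prod ({ toFun := fun g => x ≫ g, map_one' := MonObj.comp_one x, map_mul' := MonObj.comp_mul x } :
    (X ⟶ Y) →* (T ⟶ Y)) f s

theorem prod_comp [GrpObj Z] [IsCommMonObj Z] (g : Y ⟶ Z) [IsMonHom g] (s : Finset J) (f : J → (X ⟶ Y)) :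
    (∏ j ∈ s, f j) ≫ g = ∏ j ∈ s, (f j ≫ g) :=
  map_prod (post g X) f s

theorem isMonHom_prod [GrpObj X] (s : Finset J) (f : J → (X ⟶ Y)) [∀ j, IsMonHom (f j)] :
    IsMonHom (∏ j ∈ s, f j) :=
  WittGrp.isMonHom_of_comp_mul _ (by rw [comp_prod]; exact Finset.prod_eq_one fun j _ => MonObj.one_comp _)
    fun T x y => by
      rw [comp_prod, comp_prod, comp_prod, ← Finset.prod_mul_distrib]
      exact Finset.prod_congr rfl fun j _ => MonObj.mul_comp x y _

theorem isMonHom_comm_mul [GrpObj X] (f g : X ⟶ Y) [IsMonHom f] [IsMonHom g] : IsMonHom (f * g) :=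
  WittGrp.isMonHom_of_comp_mul _ (by rw [MonObj.comp_mul, MonObj.one_comp, MonObj.one_comp, _root_.one_mul])
    fun T x y => by
      rw [MonObj.comp_mul, MonObj.comp_mul, MonObj.comp_mul, MonObj.mul_comp, MonObj.mul_comp, _root_.mul_mul_mul_comm]

theorem mul_mul_inv_cancel_aux {A : Type*} [CommGroup A] (a b : A) : a * (b * a⁻¹) = b := by
  rw [← _root_.mul_assoc, _root_.mul_comm a b, mul_inv_cancel_right]

end Sums

section AxisW

variable {r : ℕ} {nn : Fin r → ℕ}

/-- The inclusion of a factor. -/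
def axisW (j : Fin r) : Wk p k (nn j) ⟶ PW p (Sk k) nn :=
  tuple (Function.update (fun _ => 1) j (𝟙 _))

theorem axisW_prj (j : Fin r) : axisW (p := p) (k := k) j ≫ prj p (Sk k) nn j = 𝟙 _ := by
  rw [axisW, tuple_prj, Function.update_self]

theorem axisW_prj_of_ne {j l : Fin r} (h : l ≠ j) : axisW (p := p) (k := k) j ≫ prj p (Sk k) nn l = 1 := by
  rw [axisW, tuple_prj, Function.update_of_ne h]

instance isMonHom_axisW (j : Fin r) : IsMonHom (axisW (p := p) (k := k) (nn := nn) j) :=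
  WittGrp.isMonHom_of_comp_mul _
    (PW_ext fun l => by
      rcases eq_or_ne l j with rfl | h
      · rw [Category.assoc, axisW_prj, Category.comp_id, MonObj.one_comp (prj p (Sk k) nn l)]
      · rw [Category.assoc, axisW_prj_of_ne h, MonObj.comp_one, MonObj.one_comp (prj p (Sk k) nn l)])
    fun T x y => PW_ext fun l => by
      rw [MonObj.mul_comp _ _ (prj p (Sk k) nn l)]
      rcases eq_or_ne l j with rfl | h
      · simp only [Category.assoc, axisW_prj, Category.comp_id]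
      · simp only [Category.assoc, axisW_prj_of_ne h, MonObj.comp_one, _root_.mul_one]

theorem prod_prj_axisW : (∏ j, prj p (Sk k) nn j ≫ axisW j) = 𝟙 (PW p (Sk k) nn) :=
  PW_ext fun l => by
    rw [prod_comp, Finset.prod_eq_single l (fun j _ h => by rw [Category.assoc, axisW_prj_of_ne h.symm, MonObj.comp_one])
      (fun h => absurd (Finset.mem_univ l) h), Category.assoc, axisW_prj, Category.comp_id, Category.id_comp]

theorem eq_prod_axisW {Y : Over (Sk k)} [GrpObj Y] [IsCommMonObj Y] (f : PW p (Sk k) nn ⟶ Y) [IsMonHom f] :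
    f = ∏ j, prj p (Sk k) nn j ≫ axisW j ≫ f := by
  conv_lhs => rw [← Category.id_comp f, ← prod_prj_axisW, prod_comp]
  simp only [Category.assoc]

end AxisW

variable [IsAlgClosed k] [CharP k p]

theorem pad_R (n : ℕ) : pad p k (Nat.le_succ n) ≫ WittGrp.R p (Sk k) (Nat.le_succ n) = 𝟙 _ :=
  ext_ev fun v => by rw [ev_comp, ev_R, ev_id, truncate_pad]

theorem isKernel_V_R (n : ℕ) :
    AlgGrp.IsKernel (WittGrp.V p (Sk k) (Nat.le_add_left 1 n)) (WittGrp.R p (Sk k) (Nat.le_add_right n 1)) :=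
  WittPts.isPullback_V_R (p := p) (S := Sk k) (n := n) (m := 1)

/-- The bottom coordinate relative to the section `pad`. -/
theorem exists_bot (n : ℕ) : ∃ tl : Wk p k (n + 1) ⟶ Wk p k 1,
    tl ≫ WittGrp.V p (Sk k) (Nat.le_add_left 1 n) =
      𝟙 _ * (WittGrp.R p (Sk k) (Nat.le_add_right n 1) ≫ pad p k (Nat.le_add_right n 1))⁻¹ :=
  AlgGrpLib.exists_lift_kernel (isKernel_V_R n) (by
    rw [MonObj.mul_comp, GrpObj.inv_comp, Category.id_comp, Category.assoc,
      show pad p k (Nat.le_add_right n 1) ≫ WittGrp.R p (Sk k) (Nat.le_add_right n 1) = 𝟙 _ from pad_R n,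
      Category.comp_id, mul_inv_cancel])

namespace GaExt

variable {G G' : Over (Sk k)} [GrpObj G] [GrpObj G'] (σ : GaExt p G G')

omit [IsAlgClosed k] [CharP k p] in
theorem one_s : ∀ {T : Over (Sk k)}, (1 : T ⟶ G') ≫ σ.s = 1 := fun {T} => by
  haveI := σ.isMonHom_π
  haveI := σ.isMonHom_i
  have h := σ.decomp T 1
  rw [σ.r_one, MonObj.one_comp σ.i, _root_.mul_one, ← Category.assoc, MonObj.one_comp σ.π] at h
  exact h.symm

omit [IsAlgClosed k] [CharP k p] in
theorem i_r {T : Over (Sk k)} (t : T ⟶ Wk p k 1) : (t ≫ σ.i) ≫ σ.r = t := by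
  have h := σ.r_pair (1 : T ⟶ G') t
  rwa [σ.one_s, _root_.one_mul] at h

omit [IsAlgClosed k] [CharP k p] in
theorem eq_i {T : Over (Sk k)} {x : T ⟶ G} (h : x ≫ σ.π = 1) : x = (x ≫ σ.r) ≫ σ.i := by
  conv_lhs => rw [σ.decomp T x, ← Category.assoc, h, σ.one_s, _root_.one_mul]

variable [IsCommMonObj G] [IsAffine G.left] [Smooth G.hom]

/-- A homomorphism from a Witt group to the quotient lifts after one more step. -/
theorem exists_lift_W {n : ℕ} (f : Wk p k n ⟶ G') [IsMonHom f] :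
    ∃ (φ : Wk p k 1 ⟶ Wk p k 1) (g : Wk p k (n + 1) ⟶ G), IsMonHom φ ∧ IsMonHom g ∧
      WittGrp.V p (Sk k) (Nat.le_add_left 1 n) ≫ g = φ ≫ σ.i ∧
        g ≫ σ.π = WittGrp.R p (Sk k) (Nat.le_add_right n 1) ≫ f := by
  haveI := σ.isMonHom_π
  haveI := σ.isMonHom_i
  let S : TruncatedWittVector p n k → Pnt G := fun v => (kp v ≫ f) ≫ σ.s
  let F : Wk p k n ⊗ Wk p k n ⟶ Wk p k 1 := ((fst _ _ ≫ f ≫ σ.s) * (snd _ _ ≫ f ≫ σ.s)) ≫ σ.r
  have hF : ∀ u v, kp (ev2 F u v) = (S u * S v) ≫ σ.r := fun u v => by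
    rw [ev2, kp_kv]
    simp only [F, S, MonObj.comp_mul, ← Category.assoc, lift_fst, lift_snd]
  have hmul : ∀ u v, S u * S v = S (u + v) * (kp (ev2 F u v) ≫ σ.i) := fun u v => by
    conv_lhs => rw [σ.decomp _ (S u * S v)]
    rw [hF, ← Category.assoc, MonObj.mul_comp]
    simp only [S, Category.assoc, σ.s_π, Category.comp_id]
    rw [← Category.assoc, ← MonObj.mul_comp, ← kp_add, Category.assoc]
  have hinj : ∀ u (t t' : Pnt (Wk p k 1)), S u * (t ≫ σ.i) = S u * (t' ≫ σ.i) → t = t' := fun u t t' h => by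
    rw [mul_right_inj] at h
    rw [← σ.i_r t, h, σ.i_r]
  have hcoc : IsCoc (ev2 F) := by
    refine ⟨fun u v => ?_, fun u v w => ?_⟩
    · rw [← kv_kp (ev2 F u v), ← kv_kp (ev2 F v u), hF, hF, _root_.mul_comm]
    · have h : S u * S v * S w = S u * (S v * S w) := _root_.mul_assoc _ _ _
      rw [hmul u v, hmul v w, _root_.mul_right_comm, hmul (u + v) w, ← _root_.mul_assoc, hmul u (v + w),
        add_assoc u v w, _root_.mul_assoc, _root_.mul_assoc, ← MonObj.mul_comp, ← MonObj.mul_comp, ← kp_add,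
        ← kp_add] at h
      have h' := congrArg kv (hinj _ _ _ h)
      rw [kv_kp, kv_kp] at h'
      linear_combination (norm := abel) -h'
  obtain ⟨g₀, φ, hφ, hFe⟩ := classify_W1 n F hcoc
  haveI := hφ
  let R := WittGrp.R p (Sk k) (Nat.le_add_right n 1)
  let τ := rest p k (Nat.le_add_right n 1) ≫ high p k (Nat.le_add_left 1 n)
  let ζ : Wk p k (n + 1) ⟶ Wk p k 1 := (τ ≫ φ) * (R ≫ g₀)⁻¹
  let g : Wk p k (n + 1) ⟶ G := (R ≫ f ≫ σ.s) * (ζ ≫ σ.i)
  have hg : ∀ v, kp v ≫ g = S (TruncatedWittVector.truncate (Nat.le_add_right n 1) v) * (kp (ev ζ v) ≫ σ.i) :=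
    fun v => by simp only [g, S, MonObj.comp_mul, ← Category.assoc, comp_kp, R, ev_R]
  have hτ : ∀ v, WittGrp.shift p (Nat.le_add_left 1 n) (ev τ v) = ev (rest p k (Nat.le_add_right n 1)) v := fun v => by
    rw [ev_comp]
    refine shift_high _ fun j hj => ?_
    rw [ev_rest]
    exact lowZero_of_truncate_eq_zero (Nat.le_add_right n 1) (by rw [map_sub, truncate_pad, sub_self]) j (by omega)
  have hcτ : ∀ v w, ev2 (carry p k (Nat.le_succ n) (Nat.le_add_left 1 n))
      (TruncatedWittVector.truncate (Nat.le_add_right n 1) v) (TruncatedWittVector.truncate (Nat.le_add_right n 1) w) =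
      ev τ (v + w) - ev τ v - ev τ w := fun v w => by
    refine shift_injective (Nat.le_add_left 1 n) ?_
    rw [shift_carry _ _ (by omega), map_sub, map_sub, hτ, hτ, hτ, ev_rest, ev_rest, ev_rest, map_add]
    abel
  have hS0 : S 0 = 1 := by
    simp only [S]
    rw [kp_zero, MonObj.one_comp f, σ.one_s]
  have hg0 : ev g₀ 0 = 0 := by
    have h := hFe 0 0
    have hF0 : ev2 F 0 0 = 0 := by
      rw [← kv_kp (ev2 F 0 0), hF, hS0, _root_.one_mul, σ.r_one, kv_one]
    rw [hF0, add_zero, add_sub_cancel_right] at h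
    have hc : ev2 (carry p k (Nat.le_succ n) (Nat.le_add_left 1 n)) (0 : TruncatedWittVector p n k) 0 = 0 :=
      shift_injective (Nat.le_add_left 1 n) (by rw [shift_carry _ _ (by omega), map_zero, add_zero, ev_pad_zero, add_zero, sub_zero])
    rw [hc, show ev φ (0 : TruncatedWittVector p 1 k) = 0 from map_zero (evHom φ), add_zero] at h
    exact h.symm
  refine ⟨φ, g, hφ, ?_, ?_, ?_⟩
  · haveI := smooth_W p k (n + 1)
    haveI : IsSeparated G.hom := by
      haveI : IsAffineHom G.hom := isAffineHom_of_isAffine _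
      infer_instance
    refine isMonHom_of_pts g fun x y => ?_
    rw [← kp_kv x, ← kp_kv y, ← kp_add, hg, hg, hg, map_add, _root_.mul_mul_mul_comm, hmul, _root_.mul_assoc,
      ← MonObj.mul_comp, ← MonObj.mul_comp, ← kp_add, ← kp_add]
    congr 3
    rw [hFe, hcτ]
    have hs : ∀ c d, ev φ (c - d) = ev φ c - ev φ d := map_sub (evHom φ)
    simp only [ζ, ev_mul, ev_inv, ev_comp, R, ev_R, map_add, hs]
    abel
  · haveI : IsSeparated G.hom := by
      haveI : IsAffineHom G.hom := isAffineHom_of_isAffine _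
      infer_instance
    refine hom_ext_pts fun x => ?_
    rw [← kp_kv x, ← Category.assoc, comp_kp, ev_V, hg, ← Category.assoc, comp_kp]
    have h0 : TruncatedWittVector.truncate (Nat.le_add_right n 1) (WittGrp.shift p (Nat.le_add_left 1 n) (kv x)) = 0 :=
      TruncatedWittVector.ext fun j => by
        rw [TruncatedWittVector.coeff_truncate, WittGrp.coeff_shift, TruncatedWittVector.coeff_zero,
          dif_neg (by simp)]
    have hτ0 : ev τ (WittGrp.shift p (Nat.le_add_left 1 n) (kv x)) = kv x :=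
      shift_injective (Nat.le_add_left 1 n) (by rw [hτ, ev_rest, h0, ev_pad_zero, sub_zero])
    rw [h0, hS0, _root_.one_mul]
    simp only [ζ, ev_mul, ev_inv, ev_comp, R, ev_R, h0, hg0, hτ0, neg_zero, add_zero]
  · show ((R ≫ f ≫ σ.s) * (ζ ≫ σ.i)) ≫ σ.π = R ≫ f
    rw [← Category.assoc R f σ.s, σ.π_pair]

end GaExt

/-- Products of vector groups. -/
theorem nonempty_vecAdd (m : ℕ) : ∀ r : ℕ, Nonempty (Vec p k m ⊗ Vec p k r ≅ Vec p k (m + r)) := by
  intro r
  induction r with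
  | zero =>
    exact ⟨{ hom := fst _ _, inv := lift (𝟙 _) (tuple fun j => j.elim0)
             hom_inv_id := CartesianMonoidalCategory.hom_ext _ _
               (by rw [Category.assoc, lift_fst, Category.comp_id, Category.id_comp]) (PW_ext fun j => j.elim0)
             inv_hom_id := lift_fst _ _ }⟩
  | succ r ih =>
    obtain ⟨e⟩ := ih
    exact ⟨(MonoidalCategory.whiskerLeftIso _ (vecSucc p k r).symm) ≪≫ (α_ _ _ _).symm ≪≫
      MonoidalCategory.whiskerRightIso e _ ≪≫ vecSucc p k (m + r)⟩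

/-- The data of the main theorem. -/
def SurjData (p : ℕ) [Fact p.Prime] {k : Type u} [Field k] (G : Over (Sk k)) [GrpObj G] : Prop :=
  ∃ (d r : ℕ) (nn : Fin r → ℕ) (q : PW p (Sk k) nn ⟶ G) (_ : IsMonHom q), (∀ j, nn j ≤ d) ∧
    Nonempty (G ≅ Vec p k d) ∧ (∀ y : Pnt G, ∃ x, x ≫ q = y) ∧ ∃ m, Nonempty (kerObj q ≅ Vec p k m)

section Build

variable {G G' : Over (Sk k)} [GrpObj G] [GrpObj G'] [IsCommMonObj G] [IsCommMonObj G']
  (σ : GaExt p G G') {r : ℕ} {nn : Fin r → ℕ} (g : ∀ j, Wk p k (nn j + 1) ⟶ G)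

/-- The Witt lengths one step further. -/
abbrev nextLen (nn : Fin r → ℕ) : Fin (r + 1) → ℕ := Fin.cases 1 fun j => nn j + 1

/-- The first coordinate. -/
def prjO : PW p (Sk k) (nextLen nn) ⟶ Wk p k 1 := prj p (Sk k) (nextLen nn) 0

/-- The other coordinates. -/
def prjS (j : Fin r) : PW p (Sk k) (nextLen nn) ⟶ Wk p k (nn j + 1) := prj p (Sk k) (nextLen nn) j.succ

instance isMonHom_prjO : IsMonHom (prjO (p := p) (k := k) (nn := nn)) :=
  isMonHom_prj (p := p) (S := Sk k) (nn := nextLen nn) 0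

instance isMonHom_prjS (j : Fin r) : IsMonHom (prjS (p := p) (k := k) (nn := nn) j) :=
  isMonHom_prj (p := p) (S := Sk k) (nn := nextLen nn) j.succ

omit [IsAlgClosed k] [CharP k p] in
theorem exists_tuple {T : Over (Sk k)} (z : T ⟶ Wk p k 1) (v : ∀ j, T ⟶ Wk p k (nn j + 1)) :
    ∃ x : T ⟶ PW p (Sk k) (nextLen nn), x ≫ prjO = z ∧ ∀ j, x ≫ prjS j = v j :=
  let w : ∀ l, T ⟶ Wk p k (nextLen nn l) :=
    Fin.cases (motive := fun l => T ⟶ Wk p k (nextLen nn l)) z v
  ⟨tuple (p := p) (nn := nextLen nn) w, tuple_prj (p := p) (nn := nextLen nn) w 0,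
    fun j => tuple_prj (p := p) (nn := nextLen nn) w j.succ⟩

omit [IsAlgClosed k] [CharP k p] in
theorem ext_next {T : Over (Sk k)} {x y : T ⟶ PW p (Sk k) (nextLen nn)} (h₀ : x ≫ prjO = y ≫ prjO)
    (h : ∀ j, x ≫ prjS j = y ≫ prjS j) : x = y :=
  PW_ext (nn := nextLen nn)
    (Fin.cases (motive := fun l => x ≫ prj p (Sk k) (nextLen nn) l = y ≫ prj p (Sk k) (nextLen nn) l) h₀ h)

/-- The map out of the longer product. -/
def buildH : PW p (Sk k) (nextLen nn) ⟶ G := (prjO ≫ σ.i) * ∏ j, (prjS j ≫ g j)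

/-- The restriction to the old product. -/
def buildU : PW p (Sk k) (nextLen nn) ⟶ PW p (Sk k) nn :=
  tuple fun j => prjS j ≫ WittGrp.R p (Sk k) (Nat.le_add_right (nn j) 1)

omit [IsAlgClosed k] [CharP k p] [IsCommMonObj G'] in
theorem comp_buildH {T : Over (Sk k)} (x : T ⟶ PW p (Sk k) (nextLen nn)) :
    x ≫ buildH σ g = ((x ≫ prjO) ≫ σ.i) * ∏ j, ((x ≫ prjS j) ≫ g j) := by
  rw [buildH, MonObj.comp_mul, comp_prod, Category.assoc]
  simp only [Category.assoc]

omit [IsAlgClosed k] [CharP k p] [IsCommMonObj G'] in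
theorem comp_buildU {T : Over (Sk k)} (x : T ⟶ PW p (Sk k) (nextLen nn)) (j : Fin r) :
    (x ≫ buildU) ≫ prj p (Sk k) nn j = (x ≫ prjS j) ≫ WittGrp.R p (Sk k) (Nat.le_add_right (nn j) 1) := by
  rw [buildU, Category.assoc, tuple_prj, Category.assoc]

omit [IsAlgClosed k] [CharP k p] [IsCommMonObj G'] in
theorem isMonHom_buildH [∀ j, IsMonHom (g j)] : IsMonHom (buildH σ g) := by
  haveI := σ.isMonHom_i
  haveI := isMonHom_prod Finset.univ fun j => prjS (p := p) (k := k) (nn := nn) j ≫ g j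
  exact isMonHom_comm_mul _ _

variable (q' : PW p (Sk k) nn ⟶ G') [IsMonHom q']
  (hgπ : ∀ j, g j ≫ σ.π = WittGrp.R p (Sk k) (Nat.le_add_right (nn j) 1) ≫ axisW j ≫ q')

include hgπ in
omit [IsAlgClosed k] [CharP k p] in
theorem buildH_π {T : Over (Sk k)} (x : T ⟶ PW p (Sk k) (nextLen nn)) :
    (x ≫ buildH σ g) ≫ σ.π = (x ≫ buildU) ≫ q' := by
  haveI := σ.isMonHom_π
  rw [comp_buildH, MonObj.mul_comp, σ.i_π, _root_.one_mul, prod_comp]
  conv_rhs => rw [eq_prod_axisW q', comp_prod]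
  refine Finset.prod_congr rfl fun j _ => ?_
  rw [Category.assoc, hgπ, ← Category.assoc (x ≫ buildU), comp_buildU, Category.assoc (x ≫ prjS j)]

include hgπ in
theorem buildH_surj (hsurj : ∀ y : Pnt G', ∃ u, u ≫ q' = y) (y : Pnt G) : ∃ x, x ≫ buildH σ g = y := by
  haveI := σ.isMonHom_π
  haveI := σ.isMonHom_i
  obtain ⟨u, hu⟩ := hsurj (y ≫ σ.π)
  let v : ∀ j, Pnt (Wk p k (nn j + 1)) := fun j => (u ≫ prj p (Sk k) nn j) ≫ pad p k (Nat.le_succ (nn j))
  obtain ⟨x, hx₀, hx⟩ := exists_tuple 1 v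
  obtain ⟨x', hx₀', hx'⟩ := exists_tuple ((y * (x ≫ buildH σ g)⁻¹) ≫ σ.r) v
  refine ⟨x', ?_⟩
  have hU : x ≫ buildU = u := PW_ext fun j => by
    rw [comp_buildU, hx, Category.assoc,
      show pad p k (Nat.le_succ (nn j)) ≫ WittGrp.R p (Sk k) (Nat.le_add_right (nn j) 1) = 𝟙 _ from pad_R (nn j),
      Category.comp_id]
  have h0 : (y * (x ≫ buildH σ g)⁻¹) ≫ σ.π = 1 := by
    rw [MonObj.mul_comp, GrpObj.inv_comp, buildH_π σ g q' hgπ, hU, hu, mul_inv_cancel]
  have h2 : x ≫ buildH σ g = ∏ j, (v j ≫ g j) := by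
    rw [comp_buildH, hx₀, MonObj.one_comp σ.i, _root_.one_mul]
    simp only [hx]
  rw [comp_buildH, hx₀', ← σ.eq_i h0, h2]
  simp only [hx']
  exact inv_mul_cancel_right _ _

include hgπ in
theorem buildH_kernel [∀ j, IsMonHom (g j)] [IsMonHom (buildH σ g)] :
    Nonempty (kerObj (buildH σ g) ≅ kerObj q' ⊗ Vec p k r) := by
  haveI := σ.isMonHom_π
  haveI := σ.isMonHom_i
  haveI := AlgGrpLib.kernel_mono (isKernel_kerι (buildH σ g))
  haveI := AlgGrpLib.kernel_mono (isKernel_kerι q')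
  choose tl htl using fun j : Fin r => exists_bot (p := p) (k := k) (nn j)
  obtain ⟨a, ha⟩ := AlgGrpLib.exists_lift_kernel (isKernel_kerι q') (g := kerι (buildH σ g) ≫ buildU) (by
    rw [← buildH_π σ g q' hgπ, AlgGrpLib.kernel_comp (isKernel_kerι _), MonObj.one_comp])
  let κ := kerι (buildH σ g)
  let b : kerObj (buildH σ g) ⟶ Vec p k r := tuple fun j => (κ ≫ prjS j) ≫ tl j
  let P₂ := kerObj q' ⊗ Vec p k r
  let v : ∀ j, P₂ ⟶ Wk p k (nn j + 1) := fun j =>
    (((fst _ _ ≫ kerι q') ≫ prj p (Sk k) nn j) ≫ pad p k (Nat.le_succ (nn j))) *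
      ((snd _ _ ≫ prj p (Sk k) (fun _ : Fin r => 1) j) ≫ WittGrp.V p (Sk k) (Nat.le_add_left 1 (nn j)))
  have hvR : ∀ j, v j ≫ WittGrp.R p (Sk k) (Nat.le_add_right (nn j) 1) =
      (fst _ _ ≫ kerι q') ≫ prj p (Sk k) nn j := fun j => by
    simp only [v]
    rw [MonObj.mul_comp, Category.assoc _ (pad _ _ _),
      show pad p k (Nat.le_succ (nn j)) ≫ WittGrp.R p (Sk k) (Nat.le_add_right (nn j) 1) = 𝟙 _ from pad_R (nn j),
      Category.comp_id, Category.assoc _ (WittGrp.V _ _ _),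
      WittPts.kernel_comp (isKernel_V_R (p := p) (k := k) (nn j)), _root_.mul_one]
  have hXπ : (∏ j, (v j ≫ g j)) ≫ σ.π = 1 := by
    rw [prod_comp]
    have e : ∀ j, (v j ≫ g j) ≫ σ.π = (fst (kerObj q') (Vec p k r) ≫ kerι q') ≫ (prj p (Sk k) nn j ≫ axisW j ≫ q') :=
      fun j => by rw [Category.assoc, hgπ, ← Category.assoc, hvR, Category.assoc _ (prj p (Sk k) nn j)]
    simp only [e]
    rw [← comp_prod, ← eq_prod_axisW q', Category.assoc, AlgGrpLib.kernel_comp (isKernel_kerι q'), MonObj.comp_one]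
  obtain ⟨c, hc₀, hc⟩ := exists_tuple ((∏ j, (v j ≫ g j)) ≫ σ.r)⁻¹ v
  obtain ⟨c', hc'⟩ := AlgGrpLib.exists_lift_kernel (isKernel_kerι (buildH σ g)) (g := c) (by
    rw [comp_buildH, hc₀, GrpObj.inv_comp, ← σ.eq_i hXπ]
    simp only [hc]
    exact inv_mul_cancel _)
  have hv' : ∀ j, lift a b ≫ v j = κ ≫ prjS j := fun j => by
    simp only [v, MonObj.comp_mul, ← Category.assoc, lift_fst, lift_snd]
    rw [ha, comp_buildU, tuple_prj, Category.assoc _ (tl j), htl, MonObj.comp_mul, GrpObj.comp_inv, Category.comp_id,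
      Category.assoc (κ ≫ prjS j)]
    exact mul_mul_inv_cancel_aux _ _
  refine ⟨{ hom := lift a b, inv := c', hom_inv_id := ?_, inv_hom_id := ?_ }⟩
  · rw [← cancel_mono κ, Category.assoc, hc', Category.id_comp]
    refine ext_next ?_ fun j => by rw [Category.assoc, hc, hv']
    rw [Category.assoc, hc₀, GrpObj.comp_inv, ← Category.assoc, comp_prod]
    simp only [← Category.assoc, hv']
    have h0 := AlgGrpLib.kernel_comp (isKernel_kerι (buildH σ g))
    rw [comp_buildH] at h0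
    rw [eq_inv_of_mul_eq_one_right h0, ← GrpObj.inv_comp _ σ.i, σ.i_r, inv_inv]
  · refine CartesianMonoidalCategory.hom_ext _ _ ?_ ?_
    · rw [Category.assoc, lift_fst, Category.id_comp, ← cancel_mono (kerι q'), Category.assoc, ha, ← Category.assoc,
        hc']
      exact PW_ext fun j => by rw [comp_buildU, hc, hvR]
    · rw [Category.assoc, lift_snd, Category.id_comp]
      refine PW_ext fun j => ?_
      haveI := AlgGrpLib.kernel_mono (isKernel_V_R (p := p) (k := k) (nn j))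
      rw [Category.assoc, tuple_prj, ← Category.assoc, ← Category.assoc, hc', hc,
        ← cancel_mono (WittGrp.V p (Sk k) (Nat.le_add_left 1 (nn j))), Category.assoc, htl, MonObj.comp_mul,
        GrpObj.comp_inv, Category.comp_id, ← Category.assoc, hvR]
      exact mul_inv_cancel_comm _ _

end Build

theorem surjData_step {G G' : Over (Sk k)} [GrpObj G] [GrpObj G'] [IsCommMonObj G] [IsCommMonObj G']
    [IsAffine G.left] [Smooth G.hom] (σ : GaExt p G G') (h : SurjData p G') : SurjData p G := by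
  obtain ⟨d, r, nn, q', hq', hnn, ⟨e⟩, hsurj, m, ⟨em⟩⟩ := h
  choose φ g hφ hg hgV hgπ using fun j => σ.exists_lift_W (axisW j ≫ q')
  haveI := hg
  haveI := isMonHom_buildH σ g
  obtain ⟨e'⟩ := buildH_kernel σ g q' hgπ
  exact ⟨d + 1, r + 1, nextLen nn, buildH σ g, inferInstance,
    Fin.cases (Nat.le_add_left 1 d) fun j => Nat.succ_le_succ (hnn j),
    ⟨σ.iso ≪≫ MonoidalCategory.whiskerRightIso e _ ≪≫ vecSucc p k d⟩, buildH_surj σ g q' hgπ hsurj, m + r,
    ⟨e' ≪≫ MonoidalCategory.whiskerRightIso em _ ≪≫ (nonempty_vecAdd m r).some⟩⟩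

theorem surjData_of_killed {G : Over (Sk k)} [GrpObj G] [IsCommMonObj G] [IsAffine G.left] [Smooth G.hom]
    [ConnectedSpace G.left] (hG : Killed p G) : SurjData p G := by
  refine killed_induction (fun G _ => SurjData p G) (fun G _ hiso => ?_)
    (fun G G' _ _ _ _ _ _ _ _ _ _ _ _ σ h => surjData_step σ h) hG
  haveI := hiso
  have hu : ∀ {T : Over (Sk k)} (a b : T ⟶ G), a = b := fun a b =>
    Over.OverMorphism.ext ((cancel_mono G.hom).1 ((Over.w a).trans (Over.w b).symm))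
  have hv : ∀ {T : Over (Sk k)} (a b : T ⟶ Vec p k 0), a = b := fun a b => PW_ext fun j => j.elim0
  haveI : IsMonHom (1 : PW p (Sk k) (fun _ : Fin 0 => 1) ⟶ G) :=
    WittGrp.isMonHom_of_comp_mul _ (hu _ _) fun T x y => hu _ _
  obtain ⟨l, hl⟩ := AlgGrpLib.exists_lift_kernel (isKernel_kerι (1 : PW p (Sk k) (fun _ : Fin 0 => 1) ⟶ G))
    (g := 𝟙 _) (hu _ _)
  haveI := AlgGrpLib.kernel_mono (isKernel_kerι (1 : PW p (Sk k) (fun _ : Fin 0 => 1) ⟶ G))
  refine ⟨0, 0, fun _ => 1, 1, inferInstance, fun j => j.elim0,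
    ⟨tuple (fun j => j.elim0), toUnit _ ≫ η[G], hu _ _, hv _ _⟩, fun y => ⟨1, hu _ _⟩, 0,
    ⟨kerι _, l, (cancel_mono (kerι _)).1 (by rw [Category.assoc, hl, Category.comp_id, Category.id_comp]), hl⟩⟩

end Groth.Agent.UnipStruct

namespace Groth.Agent.UnipStruct

variable {p : ℕ} [hp : Fact p.Prime] {k : Type u} [Field k]

theorem comp_id_pow {S : Scheme.{u}} {G : Over S} [GrpObj G] {T : Over S} (x : T ⟶ G) (m : ℕ) :
    x ≫ (𝟙 G : G ⟶ G) ^ m = x ^ m := by
  induction m with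
  | zero => rw [_root_.pow_zero, _root_.pow_zero, MonObj.comp_one]
  | succ m ih => rw [pow_succ, pow_succ, MonObj.comp_mul, ih, Category.comp_id]

variable [IsAlgClosed k] [CharP k p]

theorem natCast_dim_eq {X : Over (Sk k)} {d n : ℕ} (e : X ≅ Vec p k d) (h : topologicalKrullDim X.left = n) :
    d = n := by
  let e' : X.left ≅ (Vec p k d).left := (Over.forget _).mapIso e
  rw [IsHomeomorph.topologicalKrullDim_eq _ e'.hom.homeomorph.isHomeomorph] at h
  have h' := (topologicalKrullDim_PW p (fun _ : Fin d => 1) k).symm.trans h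
  rw [Finset.sum_const, Finset.card_univ, Fintype.card_fin, smul_eq_mul, Nat.mul_one] at h'
  exact_mod_cast h'

/-- `p ^ dim` kills the group. -/
theorem pow_eq_one_of_dim {G : Over (Sk k)} [GrpObj G] [IsCommMonObj G] [IsAffine G.left] [Smooth G.hom]
    [ConnectedSpace G.left] (hG : Killed p G) {n : ℕ} (hn : topologicalKrullDim G.left = n) :
    (𝟙 G : G ⟶ G) ^ p ^ n = 1 := by
  haveI : IsReduced G.left := AbSchLib.isReduced_of_smooth G.hom
  obtain ⟨d, r, nn, q, _, hnn, ⟨e⟩, hsurj, -⟩ := surjData_of_killed hG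
  obtain ⟨_, _⟩ := flat_of_pts q hsurj
  haveI := AlgGrpLib.quasiCompact_left q
  haveI : Epi q := Over.epi_of_epi_left q
  obtain rfl := natCast_dim_eq e hn
  have h1 : (𝟙 (PW p (Sk k) nn) : PW p (Sk k) nn ⟶ PW p (Sk k) nn) ^ p ^ d = 1 :=
    PW_ext fun j => by rw [comp_pow', MonObj.one_comp, pow_W_eq_one p k _ _ (hnn j)]
  rw [← cancel_epi q, comp_id_pow, MonObj.comp_one, ← Category.id_comp q, ← comp_pow', h1, MonObj.one_comp]

/-- The quotient presentation. -/
theorem exists_quotient_data {G : Over (Sk k)} [GrpObj G] [IsCommMonObj G] [IsAffine G.left] [Smooth G.hom]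
    [ConnectedSpace G.left] (hG : Killed p G) :
    ∃ (r : ℕ) (nn : Fin r → ℕ) (q : PW p (Sk k) nn ⟶ G) (_ : IsMonHom q),
      IsClosedImmersion (kerι q).left ∧ Smooth (kerObj q).hom ∧ ConnectedSpace ↥(kerObj q).left ∧
        Surjective q.left ∧ Flat q.left := by
  haveI : IsReduced G.left := AbSchLib.isReduced_of_smooth G.hom
  obtain ⟨d, r, nn, q, _, -, -, hsurj, m, ⟨e⟩⟩ := surjData_of_killed hG
  obtain ⟨hf, hs⟩ := flat_of_pts q hsurj
  haveI : IsSeparated G.hom := by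
    haveI : IsAffineHom G.hom := isAffineHom_of_isAffine _
    infer_instance
  let e' : (kerObj q).left ≅ (Vec p k m).left := (Over.forget _).mapIso e
  have hsm : Smooth (kerObj q).hom := by
    rw [← Over.w e.hom]
    haveI : IsIso e.hom.left := e'.isIso_hom
    infer_instance
  exact ⟨r, nn, q, inferInstance, isClosedImmersion_kerι q, hsm,
    e'.inv.homeomorph.surjective.connectedSpace e'.inv.homeomorph.continuous, hs, hf⟩

end Groth.Agent.UnipStruct
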