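import Groth.Agent.WittPts.Hom
import Mathlib.Algebra.MvPolynomial.Funext
import Mathlib.RingTheory.Polynomial.Basic

/-!
# Additive polynomials: relations on subgroups of vector groups, right common multiples
-/

set_option autoImplicit false

universe u

noncomputable section

namespace Groth.Agent.UnipStruct.Additive

variable {p : ℕ} [hp : Fact p.Prime] {k : Type u} [Field k]

/-- The additive polynomial with the given coefficients. -/
def L (p : ℕ) (a : ℕ →₀ k) (x : k) : k := a.sum fun l c => c * x ^ p ^ l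

/-- The polynomial underlying `L`. -/
def poly (p : ℕ) (a : ℕ →₀ k) : Polynomial k := a.sum fun l c => Polynomial.C c * Polynomial.X ^ p ^ l

omit hp in
theorem eval_poly (a : ℕ →₀ k) (x : k) : (poly p a).eval x = L p a x := by
  simp [poly, L, Finsupp.sum, Polynomial.eval_finsetSum]

theorem coeff_poly (a : ℕ →₀ k) (m : ℕ) : (poly p a).coeff (p ^ m) = a m := by
  rw [poly, Finsupp.sum, Polynomial.finsetSum_coeff]
  simp only [Polynomial.coeff_C_mul_X_pow]
  rw [Finset.sum_eq_single m]
  · simp
  · intro l _ hl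
    rw [if_neg fun h => hl (Nat.pow_right_injective hp.out.two_le h).symm]
  · intro hm
    simp [Finsupp.notMem_support_iff.1 hm]

omit hp in
theorem L_zero (x : k) : L p (0 : ℕ →₀ k) x = 0 := by simp [L]

omit hp in
theorem L_add (a b : ℕ →₀ k) (x : k) : L p (a + b) x = L p a x + L p b x := by
  classical
  exact Finsupp.sum_add_index (fun _ _ => zero_mul _) fun _ _ c d => add_mul c d _

omit hp in
theorem L_sub (a b : ℕ →₀ k) (x : k) : L p (a - b) x = L p a x - L p b x := by
  rw [eq_sub_iff_add_eq, ← L_add, sub_add_cancel]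

omit hp in
theorem L_single (l : ℕ) (c x : k) : L p (Finsupp.single l c) x = c * x ^ p ^ l := by
  simp [L]

variable [CharP k p]

theorem L_map_add (a : ℕ →₀ k) (x y : k) : L p a (x + y) = L p a x + L p a y := by
  simp only [L, Finsupp.sum, ← Finset.sum_add_distrib]
  exact Finset.sum_congr rfl fun l _ => by rw [add_pow_char_pow, mul_add]

/-- `L` as an additive map. -/
def LHom (p : ℕ) [Fact p.Prime] [CharP k p] (a : ℕ →₀ k) : k →+ k := AddMonoidHom.mk' (L p a) (L_map_add a)

variable [IsAlgClosed k]

theorem eq_zero_of_L {a : ℕ →₀ k} (h : ∀ x, L p a x = 0) : a = 0 := by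
  have h0 : poly p a = 0 := Polynomial.funext fun x => by rw [eval_poly, h, Polynomial.eval_zero]
  exact Finsupp.ext fun m => by rw [← coeff_poly (p := p) a m, h0, Polynomial.coeff_zero, Finsupp.zero_apply]

theorem L_surjective {a : ℕ →₀ k} (ha : a ≠ 0) : Function.Surjective (L p a) := fun y => by
  have hdeg : (poly p a - Polynomial.C y).degree ≠ 0 := fun h => by
    have hc : poly p a = Polynomial.C ((poly p a - Polynomial.C y).coeff 0) + Polynomial.C y :=
      (sub_eq_iff_eq_add).1 (Polynomial.eq_C_of_degree_eq_zero h)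
    refine ha (Finsupp.ext fun m => ?_)
    rw [← coeff_poly (p := p) a m, hc, ← map_add, Polynomial.coeff_C, if_neg (pow_pos hp.out.pos m).ne',
      Finsupp.zero_apply]
  obtain ⟨x, hx⟩ := IsAlgClosed.exists_root _ hdeg
  exact ⟨x, by rwa [Polynomial.IsRoot.def, Polynomial.eval_sub, Polynomial.eval_C, eval_poly, sub_eq_zero] at hx⟩

theorem finite_roots_L {a : ℕ →₀ k} (ha : a ≠ 0) (y : k) : {x | L p a x = y}.Finite := by
  have h0 : poly p a - Polynomial.C y ≠ 0 := fun h => ha (eq_zero_of_L fun x => by
    obtain ⟨z, hz⟩ := L_surjective ha (0 : k)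
    have h1 := congrArg (Polynomial.eval x) h
    have h2 := congrArg (Polynomial.eval z) h
    simp only [Polynomial.eval_sub, Polynomial.eval_C, eval_poly, Polynomial.eval_zero, sub_eq_zero] at h1 h2
    rw [h1, ← h2, hz])
  exact (Polynomial.finite_setOf_isRoot h0).subset fun x hx => by
    simpa [Polynomial.IsRoot.def, eval_poly, sub_eq_zero] using hx

/-- An additive polynomial function is some `L a`. -/
theorem exists_L (P : Polynomial k) (h : ∀ x y, P.eval (x + y) = P.eval x + P.eval y) :
    ∃ a : ℕ →₀ k, ∀ x, L p a x = P.eval x :=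
  WittPts.additive_induction (p := p) (fun f => ∃ a : ℕ →₀ k, ∀ x, L p a x = f x)
    (fun c => ⟨Finsupp.single 0 c, fun x => by rw [L_single, pow_zero, pow_one]⟩)
    (fun f g ⟨a, ha⟩ ⟨b, hb⟩ => ⟨a + b, fun x => by rw [L_add, ha, hb]⟩)
    (fun f ⟨a, ha⟩ => ⟨Finsupp.mapDomain (· + 1) a, fun x => by
      rw [L, Finsupp.sum_mapDomain_index (fun _ => zero_mul _) fun _ _ _ => add_mul _ _ _]
      refine Eq.trans ?_ (ha (x ^ p))
      refine Finset.sum_congr rfl fun l _ => ?_
      show a l * x ^ p ^ (l + 1) = a l * (x ^ p) ^ p ^ l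
      rw [pow_succ', pow_mul]⟩) P h

/-- One more than the largest index of a nonzero coefficient. -/
def wt (a : ℕ →₀ k) : ℕ := a.support.sup (· + 1)

omit [CharP k p] [IsAlgClosed k] in
theorem apply_eq_zero {a : ℕ →₀ k} {i : ℕ} (h : wt a ≤ i) : a i = 0 := by
  by_contra hi
  have := Finset.le_sup (f := (· + 1)) (Finsupp.mem_support_iff.2 hi)
  change i + 1 ≤ wt a at this
  omega

omit [CharP k p] [IsAlgClosed k] in
theorem exists_top {a : ℕ →₀ k} (ha : a ≠ 0) : ∃ m, wt a = m + 1 ∧ a m ≠ 0 := by
  obtain ⟨m, hm, he⟩ := Finset.exists_mem_eq_sup a.support (Finsupp.support_nonempty_iff.2 ha) (· + 1)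
  exact ⟨m, he, Finsupp.mem_support_iff.1 hm⟩

/-- Cancellation of the leading term. -/
theorem exists_cancel {a b : ℕ →₀ k} (ha : a ≠ 0) (hb : b ≠ 0) (h : wt b ≤ wt a) :
    ∃ (a' : ℕ →₀ k) (d : ℕ) (c : k), c ≠ 0 ∧ wt a' < wt a ∧ ∀ x, L p a x = L p a' x + L p b (c * x ^ p ^ d) := by
  classical
  obtain ⟨m, hm, ham⟩ := exists_top ha
  obtain ⟨n, hn, hbn⟩ := exists_top hb
  obtain ⟨c, hc⟩ := IsAlgClosed.exists_pow_nat_eq (a m / b n) (pow_pos hp.out.pos n)
  have hc0 : c ≠ 0 := fun h0 => by
    rw [h0, zero_pow (pow_ne_zero n hp.out.ne_zero)] at hc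
    exact div_ne_zero ham hbn hc.symm
  let s : ℕ →₀ k := b.sum fun l z => Finsupp.single (l + (m - n)) (z * c ^ p ^ l)
  have hs : ∀ i, s i = if m - n ≤ i then b (i - (m - n)) * c ^ p ^ (i - (m - n)) else 0 := fun i => by
    simp only [s, Finsupp.sum_apply, Finsupp.single_apply]
    split_ifs with hi
    · rw [Finsupp.sum, Finset.sum_eq_single (i - (m - n))]
      · rw [if_pos (by omega)]
      · intro l _ hl; rw [if_neg (by omega)]
      · intro hl; rw [if_pos (by omega), Finsupp.notMem_support_iff.1 hl, zero_mul]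
    · exact Finset.sum_eq_zero fun l _ => if_neg (by omega)
  refine ⟨a - s, m - n, c, hc0, ?_, fun x => ?_⟩
  · rw [hm]
    refine Nat.lt_succ_of_le (Finset.sup_le fun i hi => ?_)
    by_contra hlt
    refine Finsupp.mem_support_iff.1 hi ?_
    rw [Finsupp.sub_apply, hs, if_pos (by omega)]
    rcases (show i = m ∨ m < i by omega) with rfl | hmi
    · rw [show i - (i - n) = n by omega, hc, mul_div_cancel₀ _ hbn, sub_self]
    · rw [apply_eq_zero (a := a) (by omega), apply_eq_zero (a := b) (by omega), zero_mul, sub_zero]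
  · have hsx : L p s x = L p b (c * x ^ p ^ (m - n)) := by
      let Φ : (ℕ →₀ k) →+ k := AddMonoidHom.mk' (fun q => L p q x) fun q r => L_add q r x
      show Φ s = _
      rw [map_finsuppSum]
      refine Finset.sum_congr rfl fun l _ => ?_
      show L p (Finsupp.single _ _) x = _
      rw [L_single]
      show _ = b l * (c * x ^ p ^ (m - n)) ^ p ^ l
      rw [mul_pow, ← pow_mul, ← pow_add, add_comm (m - n) l, mul_assoc]
    rw [L_sub, hsx, sub_add_cancel]

/-- Right common multiples of additive polynomials. -/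
theorem exists_ore : ∀ (N : ℕ) (a b : ℕ →₀ k), wt a + wt b ≤ N → a ≠ 0 → b ≠ 0 →
    ∃ θ ξ : ℕ →₀ k, θ ≠ 0 ∧ ξ ≠ 0 ∧ ∀ x, L p a (L p θ x) + L p b (L p ξ x) = 0 := by
  intro N
  induction N with
  | zero =>
    intro a b h ha
    obtain ⟨m, hm, -⟩ := exists_top ha
    omega
  | succ N ih =>
    have main : ∀ a b : ℕ →₀ k, wt a + wt b ≤ N + 1 → a ≠ 0 → b ≠ 0 → wt b ≤ wt a →
        ∃ θ ξ : ℕ →₀ k, θ ≠ 0 ∧ ξ ≠ 0 ∧ ∀ x, L p a (L p θ x) + L p b (L p ξ x) = 0 := by
      intro a b hN ha hb hle
      obtain ⟨a', d, c, hc, hlt, e⟩ := exists_cancel (p := p) ha hb hle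
      by_cases ha' : a' = 0
      · refine ⟨Finsupp.single 0 1, Finsupp.single d (-c), by simp, by simp [hc], fun x => ?_⟩
        rw [e, ha', L_zero, zero_add, L_single, L_single, pow_zero, pow_one, one_mul, ← L_map_add, neg_mul,
          add_neg_cancel]
        exact map_zero (LHom p b)
      obtain ⟨θ, ξ, hθ, hξ, hx⟩ := ih a' b (by omega) ha' hb
      obtain ⟨γ, hγ⟩ := exists_L (p := p) (poly p ξ - Polynomial.C c * poly p θ ^ p ^ d) fun x y => by
        simp only [Polynomial.eval_sub, Polynomial.eval_mul, Polynomial.eval_C, Polynomial.eval_pow, eval_poly,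
          L_map_add, add_pow_char_pow]
        ring
      have key : ∀ x, L p a (L p θ x) + L p b (L p γ x) = 0 := fun x => by
        rw [e, hγ, Polynomial.eval_sub, Polynomial.eval_mul, Polynomial.eval_C, Polynomial.eval_pow, eval_poly,
          eval_poly, add_assoc, ← L_map_add, add_sub_cancel]
        exact hx x
      refine ⟨θ, γ, hθ, fun hγ0 => ?_, key⟩
      refine ha (eq_zero_of_L fun y => ?_)
      obtain ⟨x, rfl⟩ := L_surjective hθ y
      have := key x
      rwa [hγ0, L_zero, show L p b 0 = 0 from map_zero (LHom p b), add_zero] at this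
    intro a b hN ha hb
    rcases le_total (wt b) (wt a) with h | h
    · exact main a b hN ha hb h
    · obtain ⟨ξ, θ, hξ, hθ, e⟩ := main b a (by omega) hb ha h
      exact ⟨θ, ξ, hθ, hξ, fun x => by rw [add_comm]; exact e x⟩

/-- Translation lowers the degree. -/
theorem totalDegree_translate {σ : Type*} (w : σ → k) (P : MvPolynomial σ k) :
    MvPolynomial.aeval (fun i => MvPolynomial.X i + MvPolynomial.C (w i)) P - P = 0 ∨
      (MvPolynomial.aeval (fun i => MvPolynomial.X i + MvPolynomial.C (w i)) P - P).totalDegree < P.totalDegree := by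
  classical
  let T : MvPolynomial σ k →ₐ[k] MvPolynomial σ k :=
    MvPolynomial.aeval fun i => MvPolynomial.X i + MvPolynomial.C (w i)
  have key : ∀ (m : σ →₀ ℕ), ∀ c : k,
      (T (MvPolynomial.monomial m c)).totalDegree ≤ m.sum (fun _ e => e) ∧
      (T (MvPolynomial.monomial m c) - MvPolynomial.monomial m c = 0 ∨
        (T (MvPolynomial.monomial m c) - MvPolynomial.monomial m c).totalDegree < m.sum (fun _ e => e)) := by
    intro m
    refine Finsupp.induction_linear m ?_ ?_ ?_
    · intro c; simp [T]
    · intro m₁ m₂ h₁ h₂ c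
      have hm : MvPolynomial.monomial (m₁ + m₂) c = MvPolynomial.monomial m₁ c * MvPolynomial.monomial m₂ 1 := by
        rw [MvPolynomial.monomial_mul, mul_one]
      have hs : (m₁ + m₂).sum (fun _ e => e) = m₁.sum (fun _ e => e) + m₂.sum (fun _ e => e) :=
        Finsupp.sum_add_index (fun _ _ => rfl) fun _ _ _ _ => rfl
      obtain ⟨a₁, b₁⟩ := h₁ c
      obtain ⟨a₂, b₂⟩ := h₂ 1
      rw [hm, map_mul, hs]
      refine ⟨(MvPolynomial.totalDegree_mul _ _).trans (add_le_add a₁ a₂), ?_⟩
      set f := MvPolynomial.monomial m₁ c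
      set g := MvPolynomial.monomial m₂ (1 : k)
      have hf : f.totalDegree ≤ m₁.sum (fun _ e => e) := MvPolynomial.totalDegree_monomial_le _ _
      rw [show T f * T g - f * g = (T f - f) * T g + f * (T g - g) by ring]
      rcases b₁ with e₁ | e₁ <;> rcases b₂ with e₂ | e₂
      · left; rw [e₁, e₂, zero_mul, mul_zero, add_zero]
      · right; rw [e₁, zero_mul, zero_add]
        exact (MvPolynomial.totalDegree_mul _ _).trans_lt (add_lt_add_of_le_of_lt hf e₂)
      · right; rw [e₂, mul_zero, add_zero]
        exact (MvPolynomial.totalDegree_mul _ _).trans_lt (add_lt_add_of_lt_of_le e₁ a₂)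
      · right
        refine (MvPolynomial.totalDegree_add _ _).trans_lt (max_lt ?_ ?_)
        · exact (MvPolynomial.totalDegree_mul _ _).trans_lt (add_lt_add_of_lt_of_le e₁ a₂)
        · exact (MvPolynomial.totalDegree_mul _ _).trans_lt (add_lt_add_of_le_of_lt hf e₂)
    · intro i e c
      induction e with
      | zero => simp [T]
      | succ e ih =>
        have hm : MvPolynomial.monomial (Finsupp.single i (e + 1)) c =
            MvPolynomial.monomial (Finsupp.single i e) c * MvPolynomial.X i := by
          rw [MvPolynomial.X, MvPolynomial.monomial_mul, mul_one, ← Finsupp.single_add]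
        simp only [Finsupp.sum_single_index] at ih ⊢
        have hX : (MvPolynomial.X i + MvPolynomial.C (w i) : MvPolynomial σ k).totalDegree ≤ 1 :=
          (MvPolynomial.totalDegree_add _ _).trans (by simp)
        rw [hm, map_mul, show T (MvPolynomial.X i) = MvPolynomial.X i + MvPolynomial.C (w i) by simp [T]]
        obtain ⟨a, b⟩ := ih
        refine ⟨(MvPolynomial.totalDegree_mul _ _).trans (add_le_add a hX), Or.inr ?_⟩
        set f := MvPolynomial.monomial (Finsupp.single i e) c
        rw [show T f * (MvPolynomial.X i + MvPolynomial.C (w i)) - f * MvPolynomial.X i =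
          (T f - f) * MvPolynomial.X i + T f * MvPolynomial.C (w i) by ring]
        refine (MvPolynomial.totalDegree_add _ _).trans_lt (max_lt ?_ ?_)
        · rcases b with b | b
          · rw [b, zero_mul, MvPolynomial.totalDegree_zero]; omega
          · refine (MvPolynomial.totalDegree_mul _ _).trans_lt ?_
            rw [MvPolynomial.totalDegree_X]
            omega
        · refine (MvPolynomial.totalDegree_mul _ _).trans_lt ?_
          rw [MvPolynomial.totalDegree_C]
          omega
  by_cases hd : T P - P = 0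
  · exact Or.inl hd
  right
  have hsum : T P - P = ∑ m ∈ P.support,
      (T (MvPolynomial.monomial m (P.coeff m)) - MvPolynomial.monomial m (P.coeff m)) := by
    rw [Finset.sum_sub_distrib, ← map_sum, ← MvPolynomial.as_sum]
  have hpos : 0 < P.totalDegree := by
    by_contra h0
    refine hd ?_
    rw [(MvPolynomial.totalDegree_eq_zero_iff_eq_C (p := P)).1 (by omega)]
    simp [T]
  show (T P - P).totalDegree < _
  rw [hsum]
  refine (MvPolynomial.totalDegree_finset_sum _ _).trans_lt ((Finset.sup_lt_iff hpos).2 fun m hm => ?_)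
  rcases (key m (P.coeff m)).2 with e | e
  · rw [e, MvPolynomial.totalDegree_zero]; exact hpos
  · exact e.trans_le (MvPolynomial.le_totalDegree hm)

/-- A proper closed subgroup of a vector group satisfies a nontrivial additive relation. -/
theorem exists_relation {σ : Type*} [Fintype σ] [DecidableEq σ] (Z : AddSubgroup (σ → k)) (P₀ : MvPolynomial σ k)
    (h₀ : P₀ ≠ 0) (hZ : ∀ v ∈ Z, MvPolynomial.eval v P₀ = 0) :
    ∃ a : σ → (ℕ →₀ k), (∃ i, a i ≠ 0) ∧ ∀ v ∈ Z, ∑ i, L p (a i) (v i) = 0 := by
  classical
  have hex : ∃ n, ∃ P : MvPolynomial σ k, P ≠ 0 ∧ (∀ v ∈ Z, MvPolynomial.eval v P = 0) ∧ P.totalDegree = n :=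
    ⟨_, P₀, h₀, hZ, rfl⟩
  obtain ⟨P, hP, hPZ, hdeg⟩ := Nat.find_spec hex
  have hmin : ∀ Q : MvPolynomial σ k, (∀ v ∈ Z, MvPolynomial.eval v Q = 0) → Q.totalDegree < P.totalDegree → Q = 0 :=
    fun Q hQ hlt => by_contra fun hne => Nat.find_min hex (hdeg ▸ hlt) ⟨Q, hne, hQ, rfl⟩
  have hT : ∀ (w : σ → k), (∀ u ∈ Z, MvPolynomial.eval (u + w) P = MvPolynomial.eval u P + MvPolynomial.eval w P) →
      ∀ v, MvPolynomial.eval (v + w) P = MvPolynomial.eval v P + MvPolynomial.eval w P := by
    intro w hw v
    let D := MvPolynomial.aeval (fun i => MvPolynomial.X i + MvPolynomial.C (w i)) P - P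
    have hD : ∀ u, MvPolynomial.eval u D = MvPolynomial.eval (u + w) P - MvPolynomial.eval u P := fun u => by
      rw [map_sub]
      congr 1
      rw [MvPolynomial.aeval_def, MvPolynomial.eval_eval₂]
      congr 1
      · ext r; simp
      · funext i; simp
    have hzero : D - MvPolynomial.C (MvPolynomial.eval w P) = 0 := by
      refine hmin _ (fun u hu => by rw [map_sub, MvPolynomial.eval_C, hD, hw u hu]; ring) ?_
      refine (MvPolynomial.totalDegree_sub _ _).trans_lt (max_lt ?_ ?_)
      · rcases totalDegree_translate w P with e | e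
        · show MvPolynomial.totalDegree D < _
          rw [show D = 0 from e, MvPolynomial.totalDegree_zero]
          by_contra h0
          have hC := (MvPolynomial.totalDegree_eq_zero_iff_eq_C).1 (show P.totalDegree = 0 by omega)
          have := hPZ 0 Z.zero_mem
          rw [hC, MvPolynomial.eval_C] at this
          exact hP (by rw [hC, this, map_zero])
        · exact e
      · rw [MvPolynomial.totalDegree_C]
        by_contra h0
        have hC := (MvPolynomial.totalDegree_eq_zero_iff_eq_C).1 (show P.totalDegree = 0 by omega)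
        have := hPZ 0 Z.zero_mem
        rw [hC, MvPolynomial.eval_C] at this
        exact hP (by rw [hC, this, map_zero])
    have := congrArg (MvPolynomial.eval v) hzero
    rw [map_sub, MvPolynomial.eval_C, map_zero, hD] at this
    linear_combination this
  have hadd : ∀ v w, MvPolynomial.eval (v + w) P = MvPolynomial.eval v P + MvPolynomial.eval w P := fun v w => by
    refine hT w (fun u hu => ?_) v
    rw [add_comm u w, add_comm (MvPolynomial.eval u P)]
    exact hT u (fun u' hu' => by rw [hPZ _ (Z.add_mem hu' hu), hPZ _ hu', hPZ _ hu, add_zero]) w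
  let E : (σ → k) →+ k := AddMonoidHom.mk' (fun v => MvPolynomial.eval v P) hadd
  choose a ha using fun i => exists_L (p := p) (MvPolynomial.aeval (fun j => if j = i then Polynomial.X else 0) P)
    fun x y => by
      have he : ∀ z : k, Polynomial.eval z (MvPolynomial.aeval (fun j => if j = i then Polynomial.X else 0) P) =
          E (Pi.single i z) := fun z => by
        show _ = MvPolynomial.eval _ P
        rw [← Polynomial.coe_evalRingHom, MvPolynomial.aeval_def, MvPolynomial.eval₂_comp_left]
        show MvPolynomial.eval₂ _ _ P = MvPolynomial.eval₂ (RingHom.id k) _ P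
        congr 1
        · ext r; simp
        · funext j
          rcases eq_or_ne j i with rfl | hj
          · simp
          · simp [hj]
      rw [he, he, he, Pi.single_add, map_add]
  have hsum : ∀ v, ∑ i, L p (a i) (v i) = E v := fun v => by
    conv_rhs => rw [← Finset.univ_sum_single v, map_sum]
    refine Finset.sum_congr rfl fun i _ => (ha i (v i)).trans ?_
    show _ = MvPolynomial.eval _ P
    rw [← Polynomial.coe_evalRingHom, MvPolynomial.aeval_def, MvPolynomial.eval₂_comp_left]
    show MvPolynomial.eval₂ _ _ P = MvPolynomial.eval₂ (RingHom.id k) _ P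
    congr 1
    · ext r; simp
    · funext j
      rcases eq_or_ne j i with rfl | hj
      · simp
      · simp [hj]
  refine ⟨a, ?_, fun v hv => (hsum v).trans (hPZ v hv)⟩
  by_contra h
  push Not at h
  haveI := IsAlgClosed.instInfinite (K := k)
  refine hP (MvPolynomial.funext fun v => ?_)
  rw [map_zero]
  exact (hsum v).symm.trans (Finset.sum_eq_zero fun i _ => by rw [h i, L_zero])

end Groth.Agent.UnipStruct.Additive
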