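import Groth.Agent.UnipStruct.Basic
import Groth.Agent.WittPts.Cocycle
import Mathlib.RingTheory.KrullDimension.Polynomial

/-!
# Finite products of Witt group schemes
-/

set_option autoImplicit false
set_option linter.style.haveILetI false

universe u

open CategoryTheory CategoryTheory.Limits MonoidalCategory CartesianMonoidalCategory MonObj AlgebraicGeometry Opposite
open Groth.Agent.WittPts

noncomputable section

namespace Groth.Agent.UnipStruct

variable (p : ℕ) [Fact p.Prime] (S : Scheme.{u}) {r : ℕ} (nn : Fin r → ℕ)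

/-- Indices of the coordinates. -/
abbrev Idx : Type u := ULift.{u} (Σ j : Fin r, Fin (nn j))

/-- The product of the `W_{n_j}` as an affine space. -/
def PW (_ : ℕ) (S : Scheme.{u}) {r : ℕ} (nn : Fin r → ℕ) : Over S := Over.mk (𝔸(Idx nn; S) ↘ S)

/-- The projections. -/
def prj (j : Fin r) : PW p S nn ⟶ WittGrp.W p (nn j) S :=
  ofCoeffs fun i => (AffineSpace.coord S (⟨⟨j, i⟩⟩ : Idx nn) : Γ((PW p S nn).left, ⊤))

variable {p S nn}

theorem coeff_prj {T : Over S} (x : T ⟶ PW p S nn) (j : Fin r) (i : Fin (nn j)) :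
    (WittGrp.pts p T (Additive.ofMul (x ≫ prj p S nn j))).coeff i =
      x.left.appTop (AffineSpace.coord S (⟨⟨j, i⟩⟩ : Idx nn)) := by
  rw [coeff_comp, prj, coeff_ofCoeffs]

/-- A point of the product from its components. -/
def tuple {T : Over S} (x : ∀ j, T ⟶ WittGrp.W p (nn j) S) : T ⟶ PW p S nn :=
  Over.homMk (AffineSpace.homOfVector T.hom fun q : Idx nn =>
    (WittGrp.pts p T (Additive.ofMul (x q.down.1))).coeff q.down.2) (AffineSpace.homOfVector_over _ _)

theorem tuple_prj {T : Over S} (x : ∀ j, T ⟶ WittGrp.W p (nn j) S) (j : Fin r) : tuple x ≫ prj p S nn j = x j :=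
  pts_ext fun i => by
    rw [coeff_prj]
    exact AffineSpace.homOfVector_appTop_coord _ _ _

theorem PW_ext {T : Over S} {x y : T ⟶ PW p S nn} (h : ∀ j, x ≫ prj p S nn j = y ≫ prj p S nn j) : x = y := by
  refine Over.OverMorphism.ext (AffineSpace.hom_ext ?_ fun q => ?_)
  · exact (Over.w x).trans (Over.w y).symm
  · obtain ⟨⟨j, i⟩⟩ := q
    exact (coeff_prj x j i).symm.trans ((by rw [h] :
      (WittGrp.pts p T (Additive.ofMul (x ≫ prj p S nn j))).coeff i = (WittGrp.pts p T (Additive.ofMul (y ≫ prj p S nn j))).coeff i).trans (coeff_prj y j i))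

variable (p S nn)

/-- Points of the product. -/
def prodEquiv (T : Over S) : (T ⟶ PW p S nn) ≃ ∀ j, T ⟶ WittGrp.W p (nn j) S where
  toFun x j := x ≫ prj p S nn j
  invFun := tuple
  left_inv x := PW_ext fun j => tuple_prj _ j
  right_inv x := funext fun j => tuple_prj x j

/-- The functor of points. -/
def prodF : (Over S)ᵒᵖ ⥤ GrpCat where
  obj T := GrpCat.of (∀ j, T.unop ⟶ WittGrp.W p (nn j) S)
  map g := GrpCat.ofHom
    { toFun := fun x j => g.unop ≫ x j
      map_one' := funext fun _ => MonObj.comp_one g.unop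
      map_mul' := fun x y => funext fun j => MonObj.comp_mul g.unop (x j) (y j) }
  map_id T := GrpCat.hom_ext (MonoidHom.ext fun x => funext fun j => Category.id_comp (x j))
  map_comp g h := GrpCat.hom_ext (MonoidHom.ext fun x => funext fun j => Category.assoc h.unop g.unop (x j))

/-- Representability. -/
def prodRep : (prodF p S nn ⋙ forget _).RepresentableBy (PW p S nn) where
  homEquiv {T} := prodEquiv p S nn T
  homEquiv_comp g x := funext fun j => Category.assoc g x _

instance grpObjPW : GrpObj (PW p S nn) := GrpObj.ofRepresentableBy (PW p S nn) (prodF p S nn) (prodRep p S nn)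

variable {p S nn}

theorem mul_prj {T : Over S} (x y : T ⟶ PW p S nn) (j : Fin r) :
    (x * y) ≫ prj p S nn j = (x ≫ prj p S nn j) * (y ≫ prj p S nn j) := by
  have hμ : ∀ {T' : Over S} (z : ∀ j, T' ⟶ WittGrp.W p (nn j) S),
      (prodEquiv p S nn T').symm z ≫ prj p S nn j = z j := fun z => tuple_prj z j
  change (lift x y ≫ (prodEquiv p S nn _).symm
    ((fun j => fst _ _ ≫ prj p S nn j) * fun j => snd _ _ ≫ prj p S nn j)) ≫ prj p S nn j = _
  rw [Category.assoc, hμ]
  show lift x y ≫ ((fst _ _ ≫ prj p S nn j) * (snd _ _ ≫ prj p S nn j)) = _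
  rw [MonObj.comp_mul, lift_fst_assoc, lift_snd_assoc]

instance isMonHom_prj (j : Fin r) : IsMonHom (prj p S nn j) := by
  have h1 := mul_prj (T := 𝟙_ (Over S)) (1 : 𝟙_ (Over S) ⟶ PW p S nn) 1 j
  rw [_root_.one_mul, left_eq_mul] at h1
  exact WittGrp.isMonHom_of_comp_mul _ h1 fun T x y => mul_prj x y j

instance isCommMonObjPW : IsCommMonObj (PW p S nn) :=
  (isCommMonObj_iff_isMulCommutative _).2 fun T => ⟨⟨fun x y => PW_ext fun j => by
    rw [mul_prj, mul_prj, _root_.mul_comm]⟩⟩

variable (p S nn)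

/-- The product diagram. -/
def isLimitPW : IsLimit (Fan.mk (PW p S nn) (prj p S nn)) :=
  mkFanLimit _ (fun s => tuple s.proj) (fun s j => tuple_prj _ j)
    fun s m h => PW_ext fun j => (h j).trans (tuple_prj _ j).symm

section Field

variable (k : Type u) [Field k]

instance isAffine_PW : IsAffine (PW p (Sk k) nn).left :=
  inferInstanceAs (IsAffine 𝔸(Idx nn; Spec (CommRingCat.of k)))

instance isSeparated_PW : IsSeparated (PW p (Sk k) nn).hom :=
  inferInstanceAs (IsSeparated (𝔸(Idx nn; Spec (CommRingCat.of k)) ↘ Spec (CommRingCat.of k)))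

instance isReduced_PW : IsReduced (PW p (Sk k) nn).left :=
  isReduced_of_isOpenImmersion (AffineSpace.SpecIso (Idx nn) (CommRingCat.of k)).hom

instance connectedSpace_PW : ConnectedSpace (PW p (Sk k) nn).left :=
  haveI : IrreducibleSpace 𝔸(Idx nn; Spec (CommRingCat.of k)) := inferInstance
  inferInstanceAs (ConnectedSpace 𝔸(Idx nn; Spec (CommRingCat.of k)))

instance smooth_PW : Smooth (PW p (Sk k) nn).hom := by
  let e := AffineSpace.SpecIso (Idx nn) (CommRingCat.of k)
  show Smooth (𝔸(Idx nn; Spec (CommRingCat.of k)) ↘ Spec (CommRingCat.of k))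
  rw [← MorphismProperty.cancel_left_of_respectsIso (P := @Smooth) e.inv]
  show Smooth (e.inv ≫ 𝔸(Idx nn; Spec (CommRingCat.of k)) ↘ Spec (CommRingCat.of k))
  rw [AffineSpace.SpecIso_inv_over, HasRingHomProperty.Spec_iff (P := @Smooth)]
  haveI : Algebra.Smooth k (MvPolynomial (Idx nn) k) := ⟨inferInstance, inferInstance⟩
  exact (RingHom.smooth_algebraMap.mpr inferInstance : (algebraMap k (MvPolynomial (Idx nn) k)).Smooth)

theorem nonempty_iso_PW :
    Nonempty {e : (PW p (Sk k) nn).left ≅ Spec (CommRingCat.of (MvPolynomial (Fin (∑ j, nn j)) k)) //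
      e.hom ≫ Spec.map (CommRingCat.ofHom (algebraMap k (MvPolynomial (Fin (∑ j, nn j)) k))) = (PW p (Sk k) nn).hom} := by
  have hc : Fintype.card (Idx nn) = ∑ j, nn j := by simp
  let ρ := MvPolynomial.renameEquiv k (Fintype.equivFinOfCardEq hc).symm
  haveI : IsIso (CommRingCat.ofHom (ρ : MvPolynomial (Fin (∑ j, nn j)) k →+* MvPolynomial (Idx nn) k)) :=
    (ConcreteCategory.isIso_iff_bijective _).mpr ρ.bijective
  refine ⟨⟨AffineSpace.SpecIso (Idx nn) (CommRingCat.of k) ≪≫
    asIso (Spec.map (CommRingCat.ofHom (ρ : MvPolynomial (Fin (∑ j, nn j)) k →+* MvPolynomial (Idx nn) k))), ?_⟩⟩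
  rw [Iso.trans_hom, asIso_hom, Category.assoc, ← Spec.map_comp, ← CommRingCat.ofHom_comp]
  have h : (ρ : MvPolynomial (Fin (∑ j, nn j)) k →+* MvPolynomial (Idx nn) k).comp (algebraMap k _) = MvPolynomial.C :=
    RingHom.ext fun c => (ρ.commutes c).trans rfl
  rw [h]
  exact ((Iso.eq_inv_comp _).1 (AffineSpace.SpecIso_inv_over (n := Idx nn) (CommRingCat.of k)).symm)

theorem topologicalKrullDim_PW : topologicalKrullDim ↥(PW p (Sk k) nn).left = (∑ j, nn j : ℕ) := by
  obtain ⟨⟨e, -⟩⟩ := nonempty_iso_PW p nn k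
  rw [IsHomeomorph.topologicalKrullDim_eq _ e.hom.homeomorph.isHomeomorph]
  show topologicalKrullDim (PrimeSpectrum (MvPolynomial (Fin (∑ j, nn j)) k)) = _
  rw [PrimeSpectrum.topologicalKrullDim_eq_ringKrullDim, MvPolynomial.ringKrullDim_of_isNoetherianRing,
    ringKrullDim_eq_zero_of_field, zero_add, Nat.card_fin]

variable [IsAlgClosed k] [CharP k p]

theorem pow_W_eq_one (n m : ℕ) (h : n ≤ m) {T : Over (Sk k)} (x : T ⟶ Wk p k n) : x ^ p ^ m = 1 := by
  have hid : (𝟙 (Wk p k n) : Wk p k n ⟶ Wk p k n) ^ p ^ m = 1 := by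
    have hev : ∀ (d : ℕ) (v : TruncatedWittVector p n k), ev ((𝟙 (Wk p k n) : Wk p k n ⟶ Wk p k n) ^ d) v = d • v := fun d v => by
      induction d with
      | zero => rw [_root_.pow_zero, ev_one, zero_smul]
      | succ d ih => rw [pow_succ, ev_mul, ih, ev_id, succ_nsmul]
    exact ext_ev fun v => by rw [hev, ev_one, pow_smul_eq_zero v h]
  have h' : ∀ d : ℕ, x ≫ (𝟙 (Wk p k n) : Wk p k n ⟶ Wk p k n) ^ d = x ^ d := fun d => by
    induction d with
    | zero => rw [_root_.pow_zero, _root_.pow_zero, MonObj.comp_one]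
    | succ d ih => rw [pow_succ, pow_succ, MonObj.comp_mul, ih, Category.comp_id]
  rw [← h', hid, MonObj.comp_one]

theorem killed_PW : Killed p (PW p (Sk k) nn) :=
  ⟨Finset.univ.sup nn, fun T x => PW_ext fun j => by
    rw [comp_pow', MonObj.one_comp, pow_W_eq_one p k _ _ (Finset.le_sup (Finset.mem_univ j))]⟩

end Field

end Groth.Agent.UnipStruct
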